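import Cfsg.Agent.Lib.Linear.OOTensor.MinusFour.Conj

/-!
# Orthogonal spaces of dimension three

Frames adapted to a singular vector, transitivity on singular lines and the structure of the
isometries fixing a singular vector.
-/

set_option autoImplicit false
set_option linter.unusedSectionVars false
set_option linter.unusedSimpArgs false
set_option linter.style.haveILetI false

namespace Cfsg.Lib.Linear.OOTensor.Square

open Module
open scoped Matrix
open Cfsg.Lib.Linear.Orth

variable {μ : Type} [Fintype μ] [DecidableEq μ] {F : Type*} [Field F]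
  {β : LinearMap.BilinForm F (μ → F)}

/-- A hyperbolic pair and a vector spanning its perpendicular. -/
structure Three (β : LinearMap.BilinForm F (μ → F)) (x f e : μ → F) : Prop where
  C : Space (qf β) β
  h2 : (2 : F) ≠ 0
  card : Fintype.card μ = 3
  hyp : Hyp (qf β) β ⊤ x f
  mem : e ∈ perp2 β ⊤ x f
  ns : qf β e ≠ 0
  line : ∀ r ∈ perp2 β ⊤ x f, r = (β e r / β e e) • e

theorem exists_three (C : Space (qf β) β) (h2 : (2 : F) ≠ 0) (h3 : Fintype.card μ = 3)
    {x f : μ → F} (H : Hyp (qf β) β ⊤ x f) : ∃ e, Three β x f e := by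
  obtain ⟨e, he, hQe⟩ := exists_nonsing C (H.ndeg C C.ndeg_top) (perp_ne_bot C H (by omega))
  have he0 : e ≠ 0 := fun h => hQe (by rw [h, C.zero])
  have hee : β e e ≠ 0 := by rw [C.self]; exact mul_ne_zero h2 hQe
  have hd := H.finrank_eq C
  rw [finrank_top, finrank_fintype_fun_eq_card, h3] at hd
  have hspan : Submodule.span F {e} = perp2 β ⊤ x f :=
    Submodule.eq_of_le_of_finrank_le ((Submodule.span_singleton_le_iff_mem _ _).2 he)
      (by rw [finrank_span_singleton he0]; omega)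
  refine ⟨e, C, h2, h3, H, he, hQe, fun r hr => ?_⟩
  rw [← hspan] at hr
  obtain ⟨c, rfl⟩ := Submodule.mem_span_singleton.1 hr
  rw [map_smul, smul_eq_mul, mul_div_cancel_right₀ _ hee]

theorem exists_three_at (C : Space (qf β) β) (h2 : (2 : F) ≠ 0) (h3 : Fintype.card μ = 3)
    {x : μ → F} (hx : qf β x = 0) (hx0 : x ≠ 0) : ∃ f e, Three β x f e := by
  obtain ⟨f, H⟩ := exists_hyp C C.ndeg_top (Submodule.mem_top : x ∈ ⊤) hx0 hx
  exact ⟨f, exists_three C h2 h3 H⟩

namespace Three

variable {x f e : μ → F} (D : Three β x f e)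
include D

theorem ee : β e e ≠ 0 := by rw [D.C.self]; exact mul_ne_zero D.h2 D.ns

theorem xe : β x e = 0 := (mem_perp2.1 D.mem).2.1

theorem fe : β f e = 0 := (mem_perp2.1 D.mem).2.2

theorem ex : β e x = 0 := by rw [D.C.symm]; exact D.xe

theorem ef : β e f = 0 := by rw [D.C.symm]; exact D.fe

theorem xx : β x x = 0 := D.C.self_zero D.hyp.singE

theorem ff : β f f = 0 := D.C.self_zero D.hyp.singF

theorem x_ne : x ≠ 0 := fun h => by simpa [h] using D.hyp.pair

theorem expand (w : μ → F) : w = β f w • x + β x w • f + (β e w / β e e) • e := by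
  have h := D.line _ (D.hyp.proj D.C (x := w) trivial)
  simp only [map_sub, map_smul, D.ex, D.ef, smul_zero, sub_zero] at h
  linear_combination (norm := module) h

theorem qf_eq (w : μ → F) :
    qf β w = β f w * β x w + (β e w / β e e) ^ 2 * qf β e := by
  conv_lhs => rw [D.expand w]
  rw [D.C.add, D.C.smul, D.C.smul_add, D.hyp.singE, D.hyp.singF, D.hyp.pair]
  simp [D.xe, D.fe]

theorem eq_smul_of_perp {w : μ → F} (hw : qf β w = 0) (hxw : β x w = 0) : w = β f w • x := by
  have h := D.qf_eq w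
  rw [hw, hxw, mul_zero, zero_add, eq_comm, mul_eq_zero, or_iff_left D.ns, sq_eq_zero_iff] at h
  conv_lhs => rw [D.expand w, hxw, h]
  simp

theorem span : Submodule.span F (Set.range ![x, e, f]) = ⊤ := by
  refine eq_top_iff.2 fun w _ => (Submodule.mem_span_range_iff_exists_fun F).2
    ⟨![β f w, β e w / β e e, β x w], ?_⟩
  conv_rhs => rw [D.expand w]
  simp [Fin.sum_univ_three]
  abel

theorem sGL_e (c : F) : (sGL (qf β) β x (c • e)).val *ᵥ e = e - (c * β e e) • x := by
  rw [sGL_act D.C D.hyp.singE (by simp [D.xe])]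
  simp [D.xe]

theorem sGL_x (c : F) : (sGL (qf β) β x (c • e)).val *ᵥ x = x := by
  rw [sGL_act D.C D.hyp.singE (by simp [D.xe])]
  simp [D.xx, D.ex]

theorem sGL_f (c : F) :
    (sGL (qf β) β x (c • e)).val *ᵥ f = f + c • e - (c * c * qf β e) • x := by
  rw [sGL_act D.C D.hyp.singE (by simp [D.xe])]
  simp only [D.hyp.pair, D.C.smul, map_smul, LinearMap.smul_apply, D.ef, one_smul]
  simp
  ring_nf

theorem sGL_sq (c : F) (v : μ → F) :
    (sGL (qf β) β x (c • e)).val *ᵥ ((sGL (qf β) β x (c • e)).val *ᵥ v - v)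
        - ((sGL (qf β) β x (c • e)).val *ᵥ v - v)
      = (-(2 * qf β e) * (c * c) * β x v) • x := by
  rw [← Matrix.mulVecLin_apply, ← Matrix.mulVecLin_apply]
  conv_lhs => rw [D.expand v]
  simp only [map_add, map_sub, map_smul, Matrix.mulVecLin_apply, D.sGL_x, D.sGL_e, D.sGL_f,
    D.C.self e]
  module

/-- An isometry fixing the three vectors of a frame but possibly the last is trivial. -/
theorem eq_one {g : GL μ F} (hg : g ∈ isometryGroup F (qf β)) (hx : g.val *ᵥ x = x)
    (he : g.val *ᵥ e = e) : g = 1 := by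
  have hf : g.val *ᵥ f = f := by
    have a1 : β x (g.val *ᵥ f) = 1 := by
      conv_lhs => arg 1; rw [← hx]
      rw [D.C.B_act hg, D.hyp.pair]
    have a2 : β e (g.val *ᵥ f) = 0 := by
      conv_lhs => arg 1; rw [← he]
      rw [D.C.B_act hg, D.ef]
    have a3 := D.qf_eq (g.val *ᵥ f)
    rw [mem_iso.1 hg f, D.hyp.singF, a1, a2] at a3
    conv_lhs => rw [D.expand (g.val *ᵥ f), a1, a2]
    simp at a3
    simp [← a3]
  refine Orth.gl_ext fun w => ?_
  rw [Units.val_one, Matrix.one_mulVec, D.expand w]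
  simp only [Matrix.mulVec_add, Matrix.mulVec_smul, hx, he, hf]

/-- An isometry of `p`-power order fixing a singular vector is a Siegel element. -/
theorem fix_struct {P : ℕ} [Fact P.Prime] [CharP F P] {g : GL μ F}
    (hg : g ∈ isometryGroup F (qf β)) (hP : g ^ P = 1) (hx : g.val *ᵥ x = x) :
    ∃ t : F, g = sGL (qf β) β x (t • e) := by
  set k := β e (g.val *ᵥ e) / β e e
  set l := β f (g.val *ᵥ e)
  have h0 : β x (g.val *ᵥ e) = 0 := by
    conv_lhs => arg 1; rw [← hx]
    rw [D.C.B_act hg, D.xe]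
  have hge : g.val *ᵥ e = l • x + k • e := by
    conv_lhs => rw [D.expand (g.val *ᵥ e), h0]
    simp [k, l]
  have hk2 : k ^ 2 = 1 := by
    have h := D.qf_eq (g.val *ᵥ e)
    rw [mem_iso.1 hg e, h0, mul_zero, zero_add] at h
    exact mul_right_cancel₀ D.ns (by rw [one_mul]; exact h.symm)
  have hn : ∀ n : ℕ, ∃ s : F, (g ^ n).val *ᵥ e = s • x + k ^ n • e := by
    intro n
    induction n with
    | zero => exact ⟨0, by simp⟩
    | succ n ih =>
      obtain ⟨s, hs⟩ := ih
      refine ⟨s + k ^ n * l, ?_⟩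
      rw [pow_succ', mul_act, hs, Matrix.mulVec_add, Matrix.mulVec_smul, Matrix.mulVec_smul, hx, hge,
        pow_succ]
      module
  obtain ⟨s, hs⟩ := hn P
  have hkP : k ^ P = 1 := by
    rw [hP, Units.val_one, Matrix.one_mulVec] at hs
    have h := congrArg (β e) hs
    rw [map_add, map_smul, map_smul, D.ex, smul_zero, zero_add, smul_eq_mul] at h
    exact mul_right_cancel₀ D.ee (by rw [one_mul]; exact h.symm)
  haveI : ExpChar F P := ExpChar.prime Fact.out
  have hk : k = 1 := frobenius_inj F P (by rw [frobenius_def, frobenius_def, hkP, one_pow])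
  rw [hk, one_smul] at hge
  refine ⟨-l / β e e, ?_⟩
  set σ := sGL (qf β) β x ((-l / β e e) • e) with hσ
  have hσI : σ ∈ isometryGroup F (qf β) := sGL_mem D.C D.hyp.singE (by simp [D.xe])
  have h1 : σ⁻¹ * g = 1 := by
    refine D.eq_one (mul_mem (inv_mem hσI) hg) ?_ ?_
    · rw [mul_act, hx]
      conv_lhs => arg 2; rw [← D.sGL_x (-l / β e e)]
      rw [← hσ, inv_act]
    · rw [mul_act, hge]
      conv_rhs => rw [← inv_act σ e]
      congr 1
      rw [hσ, D.sGL_e, div_mul_cancel₀ _ D.ee]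
      module
  exact (inv_mul_eq_one.1 h1).symm

/-- The element of the root group exchanging the two singular lines. -/
theorem exists_swap {r : F} (hr : r ≠ 0) :
    ∃ n ∈ Root (qf β) β ⊤, n.val *ᵥ x = -(r * r * qf β e) • f ∧
      n.val *ᵥ f = -(r * r * qf β e)⁻¹ • x ∧ n.val *ᵥ e = -e := by
  have C := D.C
  have h2 := D.h2
  have hq := D.ns
  obtain ⟨a, ha⟩ : ∃ a : F, a = (r * qf β e)⁻¹ := ⟨_, rfl⟩
  have s1 : ∀ c : F, (sGL (qf β) β f (c • e)).val *ᵥ f = f := fun c => by
    rw [sGL_act C D.hyp.singF (by simp [D.fe])]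
    simp [D.ff, D.ef]
  have s2 : ∀ c : F, (sGL (qf β) β f (c • e)).val *ᵥ e = e - (c * β e e) • f := fun c => by
    rw [sGL_act C D.hyp.singF (by simp [D.fe])]
    simp [D.fe]
  have s3 : ∀ c : F, (sGL (qf β) β f (c • e)).val *ᵥ x = x + c • e - (c * c * qf β e) • f := fun c => by
    rw [sGL_act C D.hyp.singF (by simp [D.fe])]
    simp only [D.hyp.pair' C, C.smul, map_smul, LinearMap.smul_apply, D.ex, one_smul]
    simp
    ring_nf
  refine ⟨sGL (qf β) β f (r • e) * sGL (qf β) β x (a • e) * sGL (qf β) β f (r • e),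
    mul_mem (mul_mem (sGL_mem_root trivial trivial D.hyp.singF (by simp [D.fe]))
      (sGL_mem_root trivial trivial D.hyp.singE (by simp [D.xe])))
      (sGL_mem_root trivial trivial D.hyp.singF (by simp [D.fe])), ?_, ?_, ?_⟩
  all_goals
    simp only [mul_act, s1, s2, s3, D.sGL_x, D.sGL_e, D.sGL_f, Matrix.mulVec_add, Matrix.mulVec_sub,
      Matrix.mulVec_smul, C.self e]
    rw [ha]
    match_scalars <;> field_simp <;> ring

/-- A torus element. -/
theorem exists_torus {t : F} (ht : t ≠ 0) :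
    ∃ m ∈ Root (qf β) β ⊤, m.val *ᵥ x = (t * t) • x ∧ m.val *ᵥ e = e := by
  obtain ⟨n, hn, -, nf, ne⟩ := D.exists_swap (inv_ne_zero ht)
  obtain ⟨n', hn', nx', -, ne'⟩ := D.exists_swap (one_ne_zero (α := F))
  refine ⟨n * n', mul_mem hn hn', ?_, ?_⟩
  · rw [mul_act, nx', Matrix.mulVec_smul, nf, smul_smul]
    congr 1
    field_simp [D.ns]
  · rw [mul_act, ne', Matrix.mulVec_neg, ne, neg_neg]

/-- The root group is transitive on the singular lines. -/
theorem line_trans {z : μ → F} (hz : qf β z = 0) (hz0 : z ≠ 0) :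
    ∃ h ∈ Root (qf β) β ⊤, ∃ c : F, c ≠ 0 ∧ h.val *ᵥ x = c • z := by
  by_cases hb : β x z = 0
  · have h := D.eq_smul_of_perp hz hb
    have hk : β f z ≠ 0 := fun e' => hz0 (by rw [h, e', zero_smul])
    refine ⟨1, one_mem _, (β f z)⁻¹, inv_ne_zero hk, ?_⟩
    conv_rhs => arg 2; rw [h]
    simp [smul_smul, hk]
  obtain ⟨a, ha⟩ : ∃ a : F, a = -(β e z / β e e) / β x z := ⟨_, rfl⟩
  set s := sGL (qf β) β x (a • e)
  have hs : s ∈ Root (qf β) β ⊤ := sGL_mem_root trivial trivial D.hyp.singE (by simp [D.xe])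
  have hsI := root_le_iso D.C _ hs
  have w1 : β x (s.val *ᵥ z) = β x z := by
    conv_lhs => arg 1; rw [← D.sGL_x a]
    rw [D.C.B_act hsI]
  have w2 : β e (s.val *ᵥ z) = 0 := by
    conv_lhs => arg 2; rw [D.expand z]
    simp only [Matrix.mulVec_add, Matrix.mulVec_smul, s, D.sGL_x, D.sGL_e, D.sGL_f, map_add, map_sub,
      map_smul, D.ex, D.ef, smul_eq_mul, mul_zero, zero_add, sub_zero]
    rw [ha]
    field_simp [D.ee]
    ring
  have h3 := D.qf_eq (s.val *ᵥ z)
  rw [mem_iso.1 hsI, hz, w1, w2, zero_div, zero_pow two_ne_zero, zero_mul, add_zero, eq_comm,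
    mul_eq_zero, or_iff_left hb] at h3
  have h4 := D.expand (s.val *ᵥ z)
  rw [h3, w1, w2, zero_div, zero_smul, zero_smul, zero_add, add_zero] at h4
  obtain ⟨n, hn, -, nf, -⟩ := D.exists_swap (one_ne_zero (α := F))
  have h5 : (n * s).val *ᵥ z = (β x z * -(1 * 1 * qf β e)⁻¹) • x := by
    rw [mul_act, h4, Matrix.mulVec_smul, nf, smul_smul]
  have hk : β x z * -(1 * 1 * qf β e)⁻¹ ≠ 0 := mul_ne_zero hb (by simpa using D.ns)
  refine ⟨(n * s)⁻¹, inv_mem (mul_mem hn hs), _, inv_ne_zero hk, ?_⟩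
  conv_rhs => arg 2; rw [← inv_act (n * s) z, h5]
  rw [Matrix.mulVec_smul, smul_smul, inv_mul_cancel₀ hk, one_smul]

end Three

/-- No totally singular plane. -/
theorem no_plane (C : Space (qf β) β) (h2 : (2 : F) ≠ 0) (h3 : Fintype.card μ = 3) {a b : μ → F}
    (ha : qf β a = 0) (hb : qf β b = 0) (hab : β a b = 0) (ha0 : a ≠ 0) :
    b ∈ Submodule.span F {a} := by
  obtain ⟨f, e, D⟩ := exists_three_at C h2 h3 ha ha0
  rw [D.eq_smul_of_perp hb hab]
  exact Submodule.smul_mem _ _ (Submodule.mem_span_singleton_self a)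

end Cfsg.Lib.Linear.OOTensor.Square
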