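import Cfsg.Agent.Lib.Linear.OOTensor.Square.Form

/-!
# Conjugates of Siegel elements of one factor

An element of the group taking a Siegel element of a factor to a factorwise element permutes the
factors.
-/

set_option autoImplicit false
set_option linter.unusedSectionVars false
set_option linter.unusedSimpArgs false
set_option linter.style.haveILetI false
set_option maxSynthPendingDepth 3

namespace Cfsg.Lib.Linear.OOTensor.Square

open Module
open scoped Matrix
open Cfsg.Lib.Linear.Orth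

variable {ι κ μ : Type} [Fintype ι] [DecidableEq ι] [Fintype κ] [DecidableEq κ] [Fintype μ]
  [DecidableEq μ] {F : Type*} [Field F] {Q : (ι → F) → F} {B : LinearMap.BilinForm F (ι → F)}
  {α : LinearMap.BilinForm F (κ → F)} {β : LinearMap.BilinForm F (μ → F)}
  {τ : (κ → F) →ₗ[F] (μ → F) →ₗ[F] (ι → F)} {L : Subgroup (GL ι F)}

/-- The square of the linear part. -/
noncomputable def sqd (g : GL ι F) : Module.End F (ι → F) := (opHom g - 1) * (opHom g - 1)

theorem sqd_apply (g : GL ι F) (v : ι → F) :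
    sqd g v = g.val *ᵥ (g.val *ᵥ v - v) - (g.val *ᵥ v - v) := by
  simp [sqd, Module.End.mul_apply, opHom_apply]

theorem sqd_semi {X U Y : GL ι F} (e : Y * X = X * U) (v : ι → F) :
    sqd Y (X.val *ᵥ v) = X.val *ᵥ sqd U v := by
  have h : ∀ v, Y.val *ᵥ (X.val *ᵥ v) = X.val *ᵥ (U.val *ᵥ v) := fun v => by
    rw [← mul_act, e, mul_act]
  simp only [sqd_apply, Matrix.mulVec_sub, h]

theorem sqd_comm {g h : GL ι F} (e : h * g = g * h) (v : ι → F) :
    sqd h (g.val *ᵥ v) = g.val *ᵥ sqd h v := sqd_semi e v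

variable (T : Ten Q B α β τ)
include T

/-- The square of the linear part of a Siegel element of the second factor. -/
theorem sqd_tau {z g e : μ → F} (D : Three β z g e) {t : F} {Y : GL ι F}
    (hY : ∀ u v, Y.val *ᵥ τ u v = τ u ((sGL (qf β) β z (t • e)).val *ᵥ v)) (u : κ → F) (v : μ → F) :
    sqd Y (τ u v) = (-(2 * qf β e) * (t * t) * β z v) • τ u z := by
  simp only [sqd_apply, hY, ← map_sub]
  rw [D.sGL_sq, map_smul]

theorem sqd_range {z g e : μ → F} (D : Three β z g e) {t : F} {Y : GL ι F}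
    (hY : ∀ u v, Y.val *ᵥ τ u v = τ u ((sGL (qf β) β z (t • e)).val *ᵥ v)) (v : ι → F) :
    ∃ u, sqd Y v = τ u z := by
  have hle : (⊤ : Submodule F (ι → F)) ≤ (LinearMap.range (τ.flip z)).comap (sqd Y) := by
    rw [← T.span, Submodule.span_le]
    rintro _ ⟨⟨u, w⟩, rfl⟩
    refine ⟨(-(2 * qf β e) * (t * t) * β z w) • u, ?_⟩
    rw [sqd_tau T D hY, map_smul]
    rfl
  obtain ⟨u, hu⟩ := hle (Submodule.mem_top : v ∈ ⊤)
  exact ⟨u, hu.symm⟩

variable (hlose : Losing T L) (hlose' : Losing T.swap L) (hL : Over T L)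
  (hsw : ∃ s ∈ L, SwapAct τ s)
include hlose hlose' hL hsw

/-- An element taking a Siegel element to a factorwise element permutes the factors. -/
theorem ps_of_conj [Finite F] (P : ℕ) [Fact P.Prime] [CharP F P] (h3κ : Fintype.card κ = 3)
    (h3μ : Fintype.card μ = 3) (hs : ∃ s : F, s ≠ 0 ∧ s * s ≠ 1) {x f e : μ → F}
    (D : Three β x f e) {c : F} (hc : c ≠ 0) {X : GL ι F} (hX : X ∈ L)
    (hY : Pure τ (X * T.liftR (sGL (qf β) β x (c • e)) * X⁻¹)) : PS τ X := by
  classical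
  have hκ : 0 < Fintype.card κ := by omega
  have hμ : 0 < Fintype.card μ := by omega
  obtain ⟨u₀, hu₀⟩ := T.exists_aniso_left hκ
  have hu0 : u₀ ≠ 0 := fun e => hu₀ (by simp [e])
  set U := T.liftR (sGL (qf β) β x (c • e)) with hU
  set Y := X * U * X⁻¹ with hYdef
  have hUL : U ∈ L := hL.right x _ D.hyp.singE (by simp [D.xe])
  have hYX : Y * X = X * U := by rw [hYdef]; group
  have hUact : ∀ u v, U.val *ᵥ τ u v = τ u ((sGL (qf β) β x (c • e)).val *ᵥ v) :=
    fun u v => T.liftR_act _ u v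
  set k := -(2 * qf β e) * (c * c) with hk
  have hk0 : k ≠ 0 :=
    mul_ne_zero (neg_ne_zero.2 (mul_ne_zero T.h2 D.ns)) (mul_ne_zero hc hc)
  have hUf : ∀ u, sqd U (τ u f) = k • τ u x := fun u => by
    rw [sqd_tau T D hUact, D.hyp.pair, mul_one]
  have hXx : ∀ u, X.val *ᵥ τ u x = k⁻¹ • sqd Y (X.val *ᵥ τ u f) := fun u => by
    rw [sqd_semi hYX, hUf, Matrix.mulVec_smul, smul_smul, inv_mul_cancel₀ hk0, one_smul]
  have hpow : ∀ n : ℕ, sGL (qf β) β x (c • e) ^ n = sGL (qf β) β x (((n : F) * c) • e) := fun n => by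
    induction n with
    | zero => rw [pow_zero, Nat.cast_zero, zero_mul, zero_smul, SpTensor.sGL_zero_right D.C D.hyp.singE]
    | succ n ih =>
      rw [pow_succ, ih, sGL_mul D.C D.hyp.singE (by simp [D.xe]) (by simp [D.xe]), Nat.cast_succ,
        ← add_smul]
      congr 2
      ring
  have hYP : Y ^ P = 1 := by
    rw [hYdef, conj_pow, hU, ← map_pow, hpow, CharP.cast_eq_zero, zero_mul, zero_smul,
      SpTensor.sGL_zero_right D.C D.hyp.singE, map_one, mul_one, mul_inv_cancel]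
  have hYL : Y ∈ L := mul_mem (mul_mem hX hUL) (inv_mem hX)
  obtain ⟨p, q, hpq, hpI, hqI, hpP, hqP⟩ := pure_unip T hκ hμ P (hL.le hYL) hY hYP
  rcases unip_struct T.SW T.h2 h3μ hqI hqP with hq1 | ⟨z, zf, ze, tz, Dz, -, hqz⟩
  · -- the conjugate lies in the first factor
    rcases unip_struct T.SU T.h2 h3κ hpI hpP with hp1 | ⟨y, yf, ye, ty, Dy, -, hpy⟩
    · exfalso
      have h1 : Y = 1 := T.gl_ext fun a w => by rw [hpq, hp1, hq1]; simp
      have h2 := hXx u₀
      rw [h1] at h2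
      simp only [sqd_apply, Units.val_one, Matrix.one_mulVec, sub_self, smul_zero] at h2
      exact Orth.act_ne_zero (g := X) (T.tau_ne_zero hu0 D.x_ne) h2
    have hact : ∀ u v, Y.val *ᵥ τ.flip u v = τ.flip u ((sGL (qf α) α y (ty • ye)).val *ᵥ v) :=
      fun u v => by
        rw [LinearMap.flip_apply, hpq, hq1, hpy, Units.val_one, Matrix.one_mulVec]
        rfl
    refine ps_row_col T hlose hL hsw h3κ h3μ hs hX D.hyp.singE D.x_ne Dy.x_ne fun u => ?_
    obtain ⟨w, hw⟩ := sqd_range T.swap Dy hact (X.val *ᵥ τ u f)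
    exact ⟨k⁻¹ • w, by rw [hXx, hw, map_smul, LinearMap.flip_apply]⟩
  rcases unip_struct T.SU T.h2 h3κ hpI hpP with hp1 | ⟨y, yf, ye, ty, Dy, -, hpy⟩
  · have hact : ∀ u v, Y.val *ᵥ τ u v = τ u ((sGL (qf β) β z (tz • ze)).val *ᵥ v) :=
      fun u v => by rw [hpq, hp1, hqz, Units.val_one, Matrix.one_mulVec]
    refine Or.inl (pure_row T hlose hL h3κ h3μ hs hX D.hyp.singE D.x_ne Dz.x_ne fun u => ?_)
    obtain ⟨w, hw⟩ := sqd_range T Dz hact (X.val *ᵥ τ u f)
    exact ⟨k⁻¹ • w, by rw [hXx, hw, map_smul, LinearMap.smul_apply]⟩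
  -- both components are non-trivial: the elements of the first factor commuting with the conjugate
  have hye : ∀ s : F, α y (s • ye) = 0 := fun s => by simp [Dy.xe]
  let es : F → GL ι F := fun s => T.swap.liftR (sGL (qf α) α y (s • ye))
  let Z : F → GL ι F := fun s => X⁻¹ * es s * X
  have hesL : ∀ s, es s ∈ L := fun s => hL.left y _ Dy.hyp.singE (hye s)
  have hZL : ∀ s, Z s ∈ L := fun s => mul_mem (mul_mem (inv_mem hX) (hesL s)) hX
  have hadd : ∀ s t, Z (s + t) = Z s * Z t := fun s t => by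
    have h : es (s + t) = es s * es t := by
      simp only [es]
      rw [← map_mul, sGL_mul T.SU Dy.hyp.singE (hye s) (hye t), add_smul]
    simp only [Z, h]
    group
  have hZ0 : Z 0 = 1 := by
    simp only [Z, es]
    rw [zero_smul, SpTensor.sGL_zero_right T.SU Dy.hyp.singE, map_one, mul_one, inv_mul_cancel]
  have hesY : ∀ s, Y * es s = es s * Y := fun s => T.gl_ext fun a w => by
    rw [mul_act Y, mul_act (es s), T.liftL_act, hpq, hpq, T.liftL_act, hpy, ← mul_act, ← mul_act,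
      sGL_mul T.SU Dy.hyp.singE (hye ty) (hye s), sGL_mul T.SU Dy.hyp.singE (hye s) (hye ty), add_comm]
  have hZU : ∀ s, U * Z s = Z s * U := fun s => by
    have e1 : U = X⁻¹ * Y * X := by rw [hYdef]; group
    calc U * Z s = X⁻¹ * (Y * es s) * X := by rw [e1]; simp only [Z]; group
      _ = X⁻¹ * (es s * Y) * X := by rw [hesY]
      _ = Z s * U := by rw [e1]; simp only [Z]; group
  have hZP : ∀ s, Z s ^ P = 1 := fun s => by
    have h : ∀ n : ℕ, Z s ^ n = Z ((n : F) * s) := fun n => by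
      induction n with
      | zero => rw [pow_zero, Nat.cast_zero, zero_mul, hZ0]
      | succ n ih => rw [pow_succ, ih, ← hadd, Nat.cast_succ, add_mul, one_mul]
    rw [h, CharP.cast_eq_zero, zero_mul, hZ0]
  have hZx : ∀ s u, ∃ u', (Z s).val *ᵥ τ u x = τ u' x := fun s u => by
    obtain ⟨w, hw⟩ := sqd_range T D hUact ((Z s).val *ᵥ τ u f)
    refine ⟨k⁻¹ • w, ?_⟩
    rw [map_smul, LinearMap.smul_apply, ← hw, sqd_comm (hZU s), hUf, Matrix.mulVec_smul, smul_smul,
      inv_mul_cancel₀ hk0, one_smul]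
  haveI : ExpChar F P := ExpChar.prime Fact.out
  have hcomp : ∀ s, ∃ p : GL κ F, ∃ ψ : F, p ∈ isometryGroup F (qf α) ∧ p ^ P = 1 ∧
      ∀ a w, (Z s).val *ᵥ τ a w = τ (p.val *ᵥ a) ((sGL (qf β) β x (ψ • e)).val *ᵥ w) := by
    intro s
    have hp : Pure τ (Z s) := pure_stab3 T D hlose hL h3κ hs (hZL s) (hZx s)
    obtain ⟨p', q', hact, hpI', hqI', hpP', hqP'⟩ := pure_unip T hκ hμ P (hL.le (hZL s)) hp (hZP s)
    obtain ⟨u', hu'⟩ := hZx s u₀
    rw [hact] at hu'
    obtain ⟨a₁, ha₁⟩ := T.swap.exists_one (Orth.act_ne_zero (g := p') hu0)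
    have hline : q'.val *ᵥ x = α u' a₁ • x := by
      have h := congrArg (T.swap.ctr a₁) hu'
      rw [show τ (p'.val *ᵥ u₀) (q'.val *ᵥ x) = τ.flip (q'.val *ᵥ x) (p'.val *ᵥ u₀) from rfl,
        show τ u' x = τ.flip x u' from rfl, T.swap.ctr_tau, T.swap.ctr_tau, ha₁, one_smul] at h
      exact h
    set l := α u' a₁
    have hn : ∀ n : ℕ, (q' ^ n).val *ᵥ x = l ^ n • x := fun n => by
      induction n with
      | zero => simp
      | succ n ih => rw [pow_succ', mul_act, ih, Matrix.mulVec_smul, hline, smul_smul, pow_succ]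
    have hl : l = 1 := by
      have h := congrArg (β f) (hn P)
      rw [hqP', Units.val_one, Matrix.one_mulVec, map_smul, D.hyp.pair' D.C, smul_eq_mul, mul_one] at h
      exact frobenius_inj F P (by rw [frobenius_def, frobenius_def, ← h, one_pow])
    rw [hl, one_smul] at hline
    obtain ⟨ψ, hψ⟩ := D.fix_struct hqI' hqP' hline
    exact ⟨p', ψ, hpI', hpP', fun a w => by rw [hact, hψ]⟩
  choose p' ψ hpI' hpP' hact using hcomp
  have hp_eq : ∀ s a, (p' s).val *ᵥ a = T.ctr f ((Z s).val *ᵥ τ a x) := fun s a => by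
    rw [hact, D.sGL_x, T.ctr_tau, D.hyp.pair, one_smul]
  have hψ_eq : ∀ s a, (ψ s * β e e) • ((p' s).val *ᵥ a) = T.ctr e ((Z s).val *ᵥ τ a f) := fun s a => by
    rw [hact, D.sGL_f, T.ctr_tau]
    simp [D.fe, D.xe]
  have hpadd : ∀ s t a, (p' (s + t)).val *ᵥ a = (p' s).val *ᵥ ((p' t).val *ᵥ a) := fun s t a => by
    rw [hp_eq, hadd, mul_act, hact, D.sGL_x, hact, D.sGL_x, T.ctr_tau, D.hyp.pair, one_smul]
  have hψadd : ∀ s t, ψ (s + t) = ψ s + ψ t := fun s t => by
    have h := hψ_eq (s + t) u₀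
    rw [hadd, mul_act, hact, hact, T.ctr_tau, ← mul_act (sGL (qf β) β x _),
      sGL_mul D.C D.hyp.singE (by simp [D.xe]) (by simp [D.xe]), ← add_smul, D.sGL_f, ← hpadd] at h
    simp [D.fe, D.xe] at h
    have hne : (p' (s + t)).val *ᵥ u₀ ≠ 0 := Orth.act_ne_zero hu0
    exact mul_right_cancel₀ D.ee (smul_left_injective F hne h)
  have hEX : ∀ s, es s * X = X * Z s := fun s => by simp only [Z]; group
  have hesact : ∀ s u v, (es s).val *ᵥ τ.flip u v = τ.flip u ((sGL (qf α) α y (s • ye)).val *ᵥ v) :=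
    fun s u v => T.liftL_act _ v u
  by_cases hall : ∀ s, p' s = 1
  · -- the new elements lie in the second factor
    have hψ1 : ψ 1 ≠ 0 := fun h0 => by
      have hZ1 : Z 1 = 1 := T.gl_ext fun a w => by
        rw [hact, hall, h0, zero_smul, SpTensor.sGL_zero_right D.C D.hyp.singE]; simp
      have he1 : es 1 = 1 := by
        have := hEX 1
        rw [hZ1, mul_one, mul_eq_right] at this
        exact this
      have h := congrArg (fun g : GL ι F => g.val *ᵥ τ yf x) he1
      simp only [es, T.liftL_act, Dy.sGL_f, Units.val_one, Matrix.one_mulVec] at h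
      have h' := congrArg (α ye) (T.tau_inj D.x_ne h)
      simp [Dy.ex, Dy.ef, Dy.ee] at h'
    refine ps_row_col T hlose hL hsw h3κ h3μ hs hX D.hyp.singE D.x_ne Dy.x_ne fun u => ?_
    obtain ⟨w, hw⟩ := sqd_range T.swap Dy (hesact 1) (X.val *ᵥ τ u f)
    have h := sqd_semi (hEX 1) (τ u f)
    rw [hw, sqd_tau T D (fun a v => by rw [hact, hall, Units.val_one, Matrix.one_mulVec]) u f,
      D.hyp.pair, mul_one, Matrix.mulVec_smul, LinearMap.flip_apply] at h
    have hk' : -(2 * qf β e) * (ψ 1 * ψ 1) ≠ 0 :=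
      mul_ne_zero (neg_ne_zero.2 (mul_ne_zero T.h2 D.ns)) (mul_ne_zero hψ1 hψ1)
    exact ⟨(-(2 * qf β e) * (ψ 1 * ψ 1))⁻¹ • w, by
      rw [map_smul, h, smul_smul, inv_mul_cancel₀ hk', one_smul]⟩
  push Not at hall
  obtain ⟨s₀, hs₀⟩ := hall
  obtain ⟨y₁, g₁, e₁, t₁, D₁, ht₁, hp₁⟩ :=
    (unip_struct T.SU T.h2 h3κ (hpI' s₀) (hpP' s₀)).resolve_left hs₀
  -- the first components fix a common vector
  have hfixline : ∀ v, (p' s₀).val *ᵥ v = v → v = α g₁ v • y₁ := fun v hv => by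
    rw [hp₁, sGL_act T.SU D₁.hyp.singE (by simp [D₁.xe])] at hv
    have a1 := congrArg (α e₁) hv
    have a2 := congrArg (α g₁) hv
    simp [D₁.ex, D₁.fe, D₁.hyp.pair' T.SU] at a1 a2
    have b1 : α y₁ v = 0 := by
      rcases a1 with a1 | a1 | a1
      · exact a1
      · exact absurd a1 ht₁
      · exact absurd a1 D₁.ee
    simp [b1, ht₁] at a2
    conv_lhs => rw [D₁.expand v, b1, a2]
    simp
  have hfix0 : (p' s₀).val *ᵥ y₁ = y₁ := by rw [hp₁, D₁.sGL_x]
  have hfix : ∀ s, (p' s).val *ᵥ y₁ = y₁ := fun s => by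
    have h1 := hfixline ((p' s).val *ᵥ y₁) (by rw [← hpadd, add_comm, hpadd, hfix0])
    set l := α g₁ ((p' s).val *ᵥ y₁)
    have hn : ∀ n : ℕ, ((p' s) ^ n).val *ᵥ y₁ = l ^ n • y₁ := fun n => by
      induction n with
      | zero => simp
      | succ n ih => rw [pow_succ', mul_act, ih, Matrix.mulVec_smul, h1, smul_smul, pow_succ]
    have h := congrArg (α g₁) (hn P)
    rw [hpP', Units.val_one, Matrix.one_mulVec, map_smul, D₁.hyp.pair' T.SU, smul_eq_mul, mul_one] at h
    rw [h1, frobenius_inj F P (by rw [frobenius_def, frobenius_def, ← h, one_pow] :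
      frobenius F P l = frobenius F P 1), one_smul]
  -- the entries have degree two
  have hquad : ∀ v, ∃ A C : ι → F, ∀ s : F, (Z s).val *ᵥ v = v + s • A + (s * s) • C := fun v => by
    refine ⟨(X⁻¹ : GL ι F).val *ᵥ (τ ye (T.swap.ctr y (X.val *ᵥ v)) - τ y (T.swap.ctr ye (X.val *ᵥ v))),
      (X⁻¹ : GL ι F).val *ᵥ (-(qf α ye) • τ y (T.swap.ctr y (X.val *ᵥ v))), fun s => ?_⟩
    simp only [Z, es, mul_act]
    rw [T.swap.liftR_sGL_act Dy.hyp (hye s), T.SU.smul]
    conv_rhs => arg 1; arg 1; rw [← inv_act X v]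
    rw [← Matrix.mulVec_smul, ← Matrix.mulVec_smul, ← Matrix.mulVec_add, ← Matrix.mulVec_add]
    congr 1
    simp only [LinearMap.flip_apply, map_smul, LinearMap.smul_apply, map_add, LinearMap.add_apply]
    module
  have hψd : ∀ s, ψ s = s * ψ 1 := by
    obtain ⟨b, hb⟩ := T.swap.exists_one D₁.x_ne
    obtain ⟨A, C, hAC⟩ := hquad (τ b f)
    have hform : ∀ s, ψ s * β e e =
        α y₁ (T.ctr e (τ b f)) + s * α y₁ (T.ctr e A) + s * s * α y₁ (T.ctr e C) := fun s => by
      have h := congrArg (α y₁) (hψ_eq s b)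
      rw [hAC, map_smul] at h
      conv_lhs at h => arg 2; arg 1; rw [← hfix s]
      rw [T.SU.B_act (hpI' s), hb, smul_eq_mul, mul_one] at h
      rw [h]
      simp only [map_add, map_smul, smul_eq_mul]
    have h0 := hform 0
    have h1 := hform 1
    have h2 := hform (1 + 1)
    rw [hψadd] at h2
    have hz : ψ 0 = 0 := by have := hψadd 0 0; rw [add_zero] at this; exact left_eq_add.1 this
    rw [hz] at h0
    have hA0 : α y₁ (T.ctr e (τ b f)) = 0 := by linear_combination -h0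
    have hC0 : α y₁ (T.ctr e C) = 0 :=
      (mul_eq_zero.1 (show (2 : F) * α y₁ (T.ctr e C) = 0 by
        linear_combination 2 * h1 - h2 + hA0)).resolve_left T.h2
    intro s
    refine mul_right_cancel₀ D.ee ?_
    linear_combination hform s - s * h1 + (1 - s) * hA0 + (s * s - s) * hC0
  by_cases hd : ψ 1 = 0
  · refine Or.inl (Pure.flip (τ := τ.flip) (pure_row T.swap hlose' hL.swap h3μ h3κ hs hX
      D₁.hyp.singE D₁.x_ne Dy.x_ne fun v => ?_))
    have hZs : ∀ u w, (Z s₀).val *ᵥ τ.flip u w = τ.flip u ((sGL (qf α) α y₁ (t₁ • e₁)).val *ᵥ w) :=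
      fun u w => by
        rw [LinearMap.flip_apply, hact, hψd, hd, mul_zero, zero_smul,
          SpTensor.sGL_zero_right D.C D.hyp.singE, Units.val_one, Matrix.one_mulVec, hp₁]
        rfl
    obtain ⟨w, hw⟩ := sqd_range T.swap Dy (hesact s₀) (X.val *ᵥ τ.flip v g₁)
    have h := sqd_semi (hEX s₀) (τ.flip v g₁)
    rw [hw, sqd_tau T.swap D₁ hZs v g₁, D₁.hyp.pair, mul_one, Matrix.mulVec_smul] at h
    have hk' : -(2 * qf α e₁) * (t₁ * t₁) ≠ 0 :=
      mul_ne_zero (neg_ne_zero.2 (mul_ne_zero T.h2 D₁.ns)) (mul_ne_zero ht₁ ht₁)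
    exact ⟨(-(2 * qf α e₁) * (t₁ * t₁))⁻¹ • w, by
      rw [map_smul, LinearMap.smul_apply, h, smul_smul, inv_mul_cancel₀ hk', one_smul]⟩
  exfalso
  -- the first components are linear in the parameter, hence trivial
  have hlin : ∀ a, ∃ A, ∀ s : F, (p' s).val *ᵥ a = a + s • A := fun a => by
    obtain ⟨A, C, hAC⟩ := hquad (τ a x)
    obtain ⟨A', C', hAC'⟩ := hquad (τ a f)
    have e1 : ∀ s : F, (p' s).val *ᵥ a = a + s • T.ctr f A + (s * s) • T.ctr f C := fun s => by
      rw [hp_eq, hAC, map_add, map_add, map_smul, map_smul, T.ctr_tau, D.hyp.pair, one_smul]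
    have e2 : ∀ s : F, (s * (ψ 1 * β e e)) • (a + s • T.ctr f A + (s * s) • T.ctr f C) =
        s • T.ctr e A' + (s * s) • T.ctr e C' := fun s => by
      rw [← e1, ← mul_assoc, ← hψd, hψ_eq, hAC', map_add, map_add, map_smul, map_smul, T.ctr_tau,
        D.fe, zero_smul, zero_add]
    obtain ⟨s, hs0, hs1⟩ := hs
    have a1 := e2 1
    have a2 := e2 (-1)
    have a3 := e2 s
    set m := ψ 1 * β e e
    have hC : ((s * s - 1) * s * m * 2) • T.ctr f C = 0 := by
      linear_combination (norm := module)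
        (2 : F) • a3 - (s + s * s) • a1 - (s * s - s) • a2
    have hm : m ≠ 0 := mul_ne_zero hd D.ee
    refine ⟨T.ctr f A, fun t => ?_⟩
    rw [e1, (smul_eq_zero.1 hC).resolve_left
      (mul_ne_zero (mul_ne_zero (mul_ne_zero (sub_ne_zero.2 hs1) hs0) hm) T.h2), smul_zero, add_zero]
  let N : Module.End F (κ → F) := Matrix.mulVecLin (p' 1).val - LinearMap.id
  have hps : ∀ s a, (p' s).val *ᵥ a = a + s • N a := fun s a => by
    obtain ⟨A, hA⟩ := hlin a
    simp [N, hA]
  have hN2 : ∀ a, N (N a) = 0 := fun a => by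
    have h := hpadd 1 1 a
    rw [hps (1 + 1), hps 1 a, hps 1, map_add, map_smul] at h
    linear_combination (norm := module) -h
  have hN : N = 0 := MinusFour.skew_unip T h3κ (fun u v => by
    have h := T.SU.B_act (hpI' 1) u v
    rwa [hps, hps, one_smul, one_smul] at h) hN2
  exact hs₀ (Orth.gl_ext fun a => by rw [hps, hN]; simp)

end Cfsg.Lib.Linear.OOTensor.Square
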