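import Cfsg.Agent.Lib.Linear.OOTensor.Square.Unip

/-!
# A form of degree four of a tensor square

A combination of products of the two forms, antisymmetric in its first two arguments, is fixed by
the elements permuting the factors. The isometries of an overgroup fixing it permute the factors,
as they permute the products of two singular vectors.
-/

set_option autoImplicit false
set_option linter.unusedSectionVars false
set_option linter.unusedSimpArgs false
set_option linter.style.haveILetI false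
set_option maxSynthPendingDepth 3

namespace Cfsg.Lib.Linear.OOTensor.Square

open Module
open scoped Matrix
open Cfsg.Lib.Linear.Orth
open Cfsg.Lib.Linear.OOTensor.MinusFour (quad quad_tau quad_add_left quad_smul_left row_tau)

/-- Forms in four arguments. -/
abbrev Four4 (ι : Type) (F : Type*) [Field F] :=
  (ι → F) →ₗ[F] (ι → F) →ₗ[F] LinearMap.BilinForm F (ι → F)

variable {ι κ μ : Type} [Fintype ι] [DecidableEq ι] [Fintype κ] [DecidableEq κ] [Fintype μ]
  [DecidableEq μ] {F : Type*} [Field F] {Q : (ι → F) → F} {B : LinearMap.BilinForm F (ι → F)}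
  {α : LinearMap.BilinForm F (κ → F)} {β : LinearMap.BilinForm F (μ → F)}
  {τ : (κ → F) →ₗ[F] (μ → F) →ₗ[F] (ι → F)} {L : Subgroup (GL ι F)} (T : Ten Q B α β τ)

/-- Substitution in all four arguments. -/
noncomputable def pull (g : GL ι F) (φ : Four4 ι F) : Four4 ι F :=
  LinearMap.mk₂ F
    (fun v₁ v₂ => (φ (g.val *ᵥ v₁) (g.val *ᵥ v₂)).comp (Matrix.mulVecLin g.val) (Matrix.mulVecLin g.val))
    (fun u u' w => LinearMap.ext₂ fun a b => by simp [Matrix.mulVec_add])
    (fun c u w => LinearMap.ext₂ fun a b => by simp [Matrix.mulVec_smul])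
    (fun u w w' => LinearMap.ext₂ fun a b => by simp [Matrix.mulVec_add])
    (fun c u w => LinearMap.ext₂ fun a b => by simp [Matrix.mulVec_smul])

theorem pull_apply (g : GL ι F) (φ : Four4 ι F) (v₁ v₂ v₃ v₄ : ι → F) :
    pull g φ v₁ v₂ v₃ v₄ = φ (g.val *ᵥ v₁) (g.val *ᵥ v₂) (g.val *ᵥ v₃) (g.val *ᵥ v₄) := rfl

theorem four_ext {φ ψ : Four4 ι F} (h : ∀ v₁ v₂ v₃ v₄, φ v₁ v₂ v₃ v₄ = ψ v₁ v₂ v₃ v₄) : φ = ψ :=
  LinearMap.ext₂ fun a b => LinearMap.ext₂ fun c d => h a b c d

theorem pull_mul (g h : GL ι F) (φ : Four4 ι F) : pull (g * h) φ = pull h (pull g φ) :=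
  four_ext fun v₁ v₂ v₃ v₄ => by simp only [pull_apply, mul_act]

theorem pull_one (φ : Four4 ι F) : pull (1 : GL ι F) φ = φ :=
  four_ext fun v₁ v₂ v₃ v₄ => by simp [pull_apply]

include T

/-- Forms agreeing on products are equal. -/
theorem four_ext_tau {φ ψ : Four4 ι F} (h : ∀ a x b y c z d w,
    φ (τ a x) (τ b y) (τ c z) (τ d w) = ψ (τ a x) (τ b y) (τ c z) (τ d w)) : φ = ψ :=
  T.hom_ext fun a x => T.hom_ext fun b y => T.hom_ext fun c z => T.hom_ext fun d w =>
    h a x b y c z d w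

theorem quad_pure (a b c d : κ → F) (x y z w : μ → F) :
    quad T (τ a x) (τ b y) (τ c z) (τ d w) = α a c * α b d * (β x y * β z w) := by
  rw [quad_tau T, row_tau T, row_tau T]
  simp
  ring

theorem quad_add_right (v v₁ v₂ v₃ v₄ : ι → F) :
    quad T v (v₁ + v₂) v₃ v₄ = quad T v v₁ v₃ v₄ + quad T v v₂ v₃ v₄ := by
  simp [quad, LinearMap.sum_apply, add_mul, Finset.sum_add_distrib]

theorem quad_smul_right (c : F) (v v₂ v₃ v₄ : ι → F) :
    quad T v (c • v₂) v₃ v₄ = c * quad T v v₂ v₃ v₄ := by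
  simp [quad, LinearMap.sum_apply, Finset.mul_sum, mul_assoc]

/-- The basic product, linear in all four arguments. -/
noncomputable def quadL : Four4 ι F :=
  LinearMap.mk₂ F (quad T)
    (fun u u' w => LinearMap.ext₂ fun a b => by simp [quad_add_left T])
    (fun c u w => LinearMap.ext₂ fun a b => by simp [quad_smul_left T])
    (fun u w w' => LinearMap.ext₂ fun a b => by simp [quad_add_right T])
    (fun c u w => LinearMap.ext₂ fun a b => by simp [quad_smul_right T])

theorem quadL_pure (a b c d : κ → F) (x y z w : μ → F) :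
    quadL T (τ a x) (τ b y) (τ c z) (τ d w) = α a c * α b d * (β x y * β z w) := quad_pure T ..

/-- The antisymmetrised combination. -/
noncomputable def curv : Four4 ι F :=
  LinearMap.mk₂ F
    (fun v₁ v₂ => quadL T v₁ v₂ + (quadL T v₁).flip v₂ - (quadL T v₁ v₂).flip
      - ((quadL T v₁).flip v₂).flip)
    (fun u u' w => LinearMap.ext₂ fun a b => by simp; ring)
    (fun c u w => LinearMap.ext₂ fun a b => by simp; ring)
    (fun u w w' => LinearMap.ext₂ fun a b => by simp; ring)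
    (fun c u w => LinearMap.ext₂ fun a b => by simp; ring)

theorem curv_pure (a b c d : κ → F) (x y z w : μ → F) :
    curv T (τ a x) (τ b y) (τ c z) (τ d w) =
      α a c * α b d * (β x y * β z w) + α a b * α c d * (β x z * β y w)
        - α a d * α b c * (β x y * β w z) - α a b * α d c * (β x w * β y z) := by
  simp [curv, quadL_pure T]

theorem curv_anti : (curv T).flip = -curv T := by
  refine four_ext_tau T fun a x b y c z d w => ?_
  simp only [LinearMap.flip_apply, LinearMap.neg_apply, curv_pure T]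
  rw [T.sα b a, T.sα d c, T.sβ y x, T.sβ w z]
  ring

/-- The form is fixed by the elements permuting the factors. -/
theorem curv_ps {g : GL ι F} (hg : g ∈ isometryGroup F Q) (hp : PS τ g) :
    pull g (curv T) = curv T := by
  rcases hp with ⟨p, q, h⟩ | ⟨p, q, h⟩
  · have key : ∀ a b x y, α (p.val *ᵥ a) (p.val *ᵥ b) * β (q.val *ᵥ x) (q.val *ᵥ y)
        = α a b * β x y := fun a b x y => by
      rw [← T.pair, ← T.pair, ← h, ← h, T.space.B_act hg]
    refine four_ext_tau T fun a x b y c z d w => ?_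
    rw [pull_apply, h, h, h, h, curv_pure T, curv_pure T]
    linear_combination
      (α (p.val *ᵥ b) (p.val *ᵥ d) * β (q.val *ᵥ z) (q.val *ᵥ w)) * key a c x y
      + (α a c * β x y) * key b d z w
      + (α (p.val *ᵥ c) (p.val *ᵥ d) * β (q.val *ᵥ y) (q.val *ᵥ w)) * key a b x z
      + (α a b * β x z) * key c d y w
      - (α (p.val *ᵥ b) (p.val *ᵥ c) * β (q.val *ᵥ w) (q.val *ᵥ z)) * key a d x y
      - (α a d * β x y) * key b c w z
      - (α (p.val *ᵥ d) (p.val *ᵥ c) * β (q.val *ᵥ y) (q.val *ᵥ z)) * key a b x w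
      - (α a b * β x w) * key d c y z
  · have key : ∀ a b x y, α (q x) (q y) * β (p a) (p b) = α a b * β x y := fun a b x y => by
      rw [← T.pair, ← T.pair, ← h, ← h, T.space.B_act hg]
    refine four_ext_tau T fun a x b y c z d w => ?_
    rw [pull_apply, h, h, h, h, curv_pure T, curv_pure T]
    linear_combination
      (α (q y) (q w) * β (p c) (p d)) * key a b x z
      + (α a b * β x z) * key c d y w
      + (α (q z) (q w) * β (p b) (p d)) * key a c x y
      + (α a c * β x y) * key b d z w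
      - (α (q y) (q z) * β (p d) (p c)) * key a b x w
      - (α a b * β x w) * key d c y z
      - (α (q w) (q z) * β (p b) (p c)) * key a d x y
      - (α a d * β x y) * key b c w z

/-- The condition characterising products of two singular vectors. -/
def Cor (v : ι → F) : Prop :=
  v ≠ 0 ∧ B v v = 0 ∧ ∀ w z, curv T v w v z = -2 * (B v w * B v z)

theorem cor_tau {a : κ → F} {x : μ → F} (ha : qf α a = 0) (ha0 : a ≠ 0) (hx : qf β x = 0)
    (hx0 : x ≠ 0) : Cor T (τ a x) := by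
  have haa : α a a = 0 := T.swap.qf_zero.1 ha
  have hxx : β x x = 0 := T.qf_zero.1 hx
  refine ⟨T.tau_ne_zero ha0 hx0, by rw [T.pair, haa, zero_mul], fun w z => ?_⟩
  have e : (curv T (τ a x)).flip (τ a x) =
      (-2 : F) • (LinearMap.mk₂ F (fun w z => B (τ a x) w * B (τ a x) z) (fun _ _ _ => by simp; ring)
        (fun _ _ _ => by simp; ring) (fun _ _ _ => by simp; ring) (fun _ _ _ => by simp; ring)) :=
    T.hom_ext fun b y => T.hom_ext fun d w => by
      simp only [LinearMap.flip_apply, curv_pure T, LinearMap.smul_apply, LinearMap.mk₂_apply, T.pair,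
        smul_eq_mul, haa, hxx]
      rw [T.sα b a, T.sα d a, T.sβ w x, T.sβ y x]
      ring
  exact LinearMap.congr_fun₂ e w z

theorem curv_mixed (v u : ι → F) (b d : κ → F) (y w : μ → F) :
    curv T v (τ b y) u (τ d w) =
      α b d * α (T.ctr y v) (T.ctr w u) + β y w * β (T.swap.ctr b v) (T.swap.ctr d u)
        - B v (τ d y) * B u (τ b w) - B v (τ b w) * B u (τ d y) := by
  let lhs : LinearMap.BilinForm F (ι → F) :=
    LinearMap.mk₂ F (fun v u => curv T v (τ b y) u (τ d w)) (fun _ _ _ => by simp)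
      (fun _ _ _ => by simp) (fun _ _ _ => by simp) (fun _ _ _ => by simp)
  let rhs : LinearMap.BilinForm F (ι → F) :=
    LinearMap.mk₂ F (fun v u => α b d * α (T.ctr y v) (T.ctr w u)
        + β y w * β (T.swap.ctr b v) (T.swap.ctr d u)
        - B v (τ d y) * B u (τ b w) - B v (τ b w) * B u (τ d y))
      (fun _ _ _ => by simp; ring) (fun _ _ _ => by simp; ring)
      (fun _ _ _ => by simp; ring) (fun _ _ _ => by simp; ring)
  have e : lhs = rhs := T.hom_ext fun a x => T.hom_ext fun c z => by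
    simp only [lhs, rhs, LinearMap.mk₂_apply, curv_pure T, T.ctr_tau, row_tau T, T.pair, map_smul,
      LinearMap.smul_apply, smul_eq_mul]
    simp only [T.sα b c, T.sα d a, T.sα d c, T.sα b a, T.sβ w z, T.sβ z y]
    ring
  exact LinearMap.congr_fun₂ e v u

theorem tau_of_cor {v : ι → F} (hv : Cor T v) :
    ∃ a x, qf α a = 0 ∧ a ≠ 0 ∧ qf β x = 0 ∧ x ≠ 0 ∧ v = τ a x := by
  obtain ⟨hv0, hvv, hv⟩ := hv
  have hsymm : ∀ b d y w, B v (τ d y) * B v (τ b w) = B v (τ b y) * B v (τ d w) := fun b d y w => by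
    have h1 := hv (τ b y) (τ d w)
    have h2 := hv (τ d y) (τ b w)
    rw [curv_mixed T] at h1 h2
    rw [T.sα d b, T.sβ (T.swap.ctr d v)] at h2
    refine mul_left_cancel₀ (mul_ne_zero T.h2 T.h2) ?_
    linear_combination h2 - h1
  obtain ⟨b₀, y₀, h0⟩ : ∃ b y, B v (τ b y) ≠ 0 := by
    by_contra h
    push Not at h
    have e : B v = 0 := T.hom_ext fun b y => by simpa using h b y
    exact hv0 (T.space.nondeg' fun u => by rw [e, LinearMap.zero_apply])
  obtain ⟨a, ha⟩ : ∃ a, a = (B v (τ b₀ y₀))⁻¹ • T.ctr y₀ v := ⟨_, rfl⟩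
  obtain ⟨x, hx⟩ : ∃ x, x = T.swap.ctr b₀ v := ⟨_, rfl⟩
  have hvt : v = τ a x := by
    refine sub_eq_zero.1 (T.space.nondeg' fun u => ?_)
    have e : B (v - τ a x) = 0 := T.hom_ext fun d w => by
      rw [map_sub, LinearMap.sub_apply, LinearMap.zero_apply, T.pair, ha, hx, map_smul,
        LinearMap.smul_apply, T.α_ctr, T.swap.α_ctr, LinearMap.flip_apply, smul_eq_mul, mul_assoc,
        hsymm b₀ d y₀ w, inv_mul_cancel_left₀ h0, sub_self]
    rw [e, LinearMap.zero_apply]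
  have ha0 : a ≠ 0 := fun e => hv0 (by rw [hvt, e, map_zero, LinearMap.zero_apply])
  have hx0 : x ≠ 0 := fun e => hv0 (by rw [hvt, e, map_zero])
  have haa : α a a = 0 := by
    by_contra hne
    have hxx : β x x = 0 := by
      rw [hvt, T.pair] at hvv
      exact (mul_eq_zero.1 hvv).resolve_left hne
    obtain ⟨y, hy⟩ := T.exists_one hx0
    have h1 := hv (τ a y) (τ a y)
    rw [hvt, curv_mixed T] at h1
    simp only [T.ctr_tau, row_tau T, T.pair, map_smul, LinearMap.smul_apply, smul_eq_mul, hxx, hy,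
      mul_one, mul_zero, add_zero, one_mul] at h1
    have h3 : α a a * α a a = 0 := by linear_combination h1
    exact hne (mul_self_eq_zero.1 h3)
  have hxx : β x x = 0 := by
    by_contra hne
    obtain ⟨b, hb⟩ := T.swap.exists_one ha0
    have h1 := hv (τ b x) (τ b x)
    rw [hvt, curv_mixed T] at h1
    simp only [T.ctr_tau, row_tau T, T.pair, map_smul, LinearMap.smul_apply, smul_eq_mul, haa, hb,
      mul_one, mul_zero, add_zero, zero_add, one_mul] at h1
    have h3 : β x x * β x x = 0 := by linear_combination h1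
    exact hne (mul_self_eq_zero.1 h3)
  exact ⟨a, x, T.swap.qf_zero.2 haa, ha0, T.qf_zero.2 hxx, hx0, hvt⟩

omit T in
/-- Three products any two of which share a factor all share one. -/
theorem share_three {b₁ b₂ b₃ : κ → F} {y₁ y₂ y₃ : μ → F} (hb₂ : b₂ ≠ 0) (hb₃ : b₃ ≠ 0) (hy₂ : y₂ ≠ 0)
    (hy₃ : y₃ ≠ 0)
    (h₁₂ : b₂ ∈ Submodule.span F {b₁} ∨ y₂ ∈ Submodule.span F {y₁})
    (h₁₃ : b₃ ∈ Submodule.span F {b₁} ∨ y₃ ∈ Submodule.span F {y₁})
    (h₂₃ : b₃ ∈ Submodule.span F {b₂} ∨ y₃ ∈ Submodule.span F {y₂}) :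
    (b₂ ∈ Submodule.span F {b₁} ∧ b₃ ∈ Submodule.span F {b₁}) ∨
      (y₂ ∈ Submodule.span F {y₁} ∧ y₃ ∈ Submodule.span F {y₁}) := by
  have tr : ∀ {μ : Type} [Fintype μ] {u v w : μ → F}, w ≠ 0 → w ∈ Submodule.span F {v} →
      w ∈ Submodule.span F {u} → v ∈ Submodule.span F {u} := fun {μ} _ {u v w} hw h1 h2 => by
    obtain ⟨c, rfl⟩ := Submodule.mem_span_singleton.1 h1
    exact ((Submodule.span F {u}).smul_mem_iff (left_ne_zero_of_smul hw)).1 h2
  have up : ∀ {μ : Type} [Fintype μ] {u v w : μ → F}, v ∈ Submodule.span F {u} →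
      w ∈ Submodule.span F {v} → w ∈ Submodule.span F {u} := fun {μ} _ {u v w} h1 h2 =>
    (Submodule.span_singleton_le_iff_mem _ _).2 h1 h2
  by_cases c2 : b₂ ∈ Submodule.span F {b₁} <;> by_cases c3 : b₃ ∈ Submodule.span F {b₁}
  · exact Or.inl ⟨c2, c3⟩
  · have hy3 := h₁₃.resolve_left c3
    exact Or.inr ⟨tr hy₃ (h₂₃.resolve_left fun h => c3 (up c2 h)) hy3, hy3⟩
  · have hy2 := h₁₂.resolve_left c2
    exact Or.inr ⟨hy2, up hy2 (h₂₃.resolve_left fun h => c2 (tr hb₃ h c3))⟩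
  · exact Or.inr ⟨h₁₂.resolve_left c2, h₁₃.resolve_left c3⟩

variable (hlose : Losing T L) (hlose' : Losing T.swap L) (hL : Over T L)
  (hsw : ∃ s ∈ L, SwapAct τ s)
include hlose hL hsw

/-- An element taking a row to a column exchanges the factors. -/
theorem ps_row_col [Finite F] (h3κ : Fintype.card κ = 3) (h3μ : Fintype.card μ = 3)
    (hs : ∃ s : F, s ≠ 0 ∧ s * s ≠ 1) {g : GL ι F} (hg : g ∈ L) {x : μ → F} (hx : qf β x = 0)
    (hx0 : x ≠ 0) {b : κ → F} (hb : b ≠ 0) (hgx : ∀ u, ∃ z, g.val *ᵥ τ u x = τ b z) : PS τ g := by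
  obtain ⟨s, hsL, hsa⟩ := hsw
  obtain ⟨p, q, hpq⟩ := id hsa
  obtain ⟨u₀, hu₀⟩ := T.exists_aniso_left (by omega : 0 < Fintype.card κ)
  have hu0 : u₀ ≠ 0 := fun e => hu₀ (by simp [e])
  have hpb : p b ≠ 0 := fun e => Orth.act_ne_zero (g := s) (T.tau_ne_zero hb hx0)
    (by rw [hpq, e, map_zero])
  have hp : Pure τ (s * g) :=
    pure_row T hlose hL h3κ h3μ hs (mul_mem hsL hg) hx hx0 hpb fun u => by
      obtain ⟨z, hz⟩ := hgx u
      exact ⟨q z, by rw [mul_act, hz, hpq]⟩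
  have hss : Pure τ (s * s) := SwapAct.mul T (by omega) (by omega) hsa hsa
  refine Or.inr ?_
  have e : g = s * ((s * s)⁻¹ * (s * g)) := by group
  rw [e]
  exact hsa.mul_pure (Pure.mul (mem_pureGroup.1 ((pureGroup τ).inv_mem (mem_pureGroup.2 hss))) hp)

include hlose'

/-- An element of the group fixing the form permutes the factors. -/
theorem ps_of_curv [Finite F] (h3κ : Fintype.card κ = 3) (h3μ : Fintype.card μ = 3)
    (hs : ∃ s : F, s ≠ 0 ∧ s * s ≠ 1) {g : GL ι F} (hg : g ∈ L)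
    (hR : pull g (curv T) = curv T) : PS τ g := by
  have hgI := hL.le hg
  have hcor : ∀ {v}, Cor T v → Cor T (g.val *ᵥ v) := fun {v} ⟨h1, h2, h3⟩ => by
    refine ⟨Orth.act_ne_zero h1, by rw [T.space.B_act hgI, h2], fun w z => ?_⟩
    rw [← act_inv g w, ← act_inv g z, ← pull_apply, hR, h3, T.space.B_act hgI, T.space.B_act hgI]
  obtain ⟨c, f', Hc⟩ := exists_hyp' T.SU T.SU.ndeg_top (by
    rw [finrank_top, finrank_fintype_fun_eq_card]; omega)
  have hc0 : c ≠ 0 := fun h => by simpa [h] using Hc.pair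
  obtain ⟨x, f, H⟩ := exists_hyp' T.SW T.SW.ndeg_top (by
    rw [finrank_top, finrank_fintype_fun_eq_card]; omega)
  obtain ⟨e, D⟩ := exists_three T.SW T.h2 h3μ H
  set z := (sGL (qf β) β x ((1 : F) • e)).val *ᵥ f with hz
  have hzs : qf β z = 0 := by
    rw [hz, mem_iso.1 (sGL_mem T.SW H.singE (by simp [D.xe])), H.singF]
  have hze : z = f + e - qf β e • x := by
    rw [hz, D.sGL_f]; simp
  have hz0 : z ≠ 0 := fun h => by
    have := congrArg (β x) h
    simp [hze, H.pair, D.xe, D.xx] at this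
  have hf0 : f ≠ 0 := fun h => by simpa [h] using H.pair
  obtain ⟨b₁, y₁, hb₁, hb₁0, hy₁, hy₁0, e₁⟩ :=
    tau_of_cor T (hcor (cor_tau T Hc.singE hc0 H.singE D.x_ne))
  obtain ⟨b₂, y₂, hb₂, hb₂0, hy₂, hy₂0, e₂⟩ :=
    tau_of_cor T (hcor (cor_tau T Hc.singE hc0 H.singF hf0))
  obtain ⟨b₃, y₃, hb₃, hb₃0, hy₃, hy₃0, e₃⟩ :=
    tau_of_cor T (hcor (cor_tau T Hc.singE hc0 hzs hz0))
  have hshare : ∀ {u w b b' y y'}, g.val *ᵥ τ c u = τ b y → g.val *ᵥ τ c w = τ b' y' →
      qf α b = 0 → b ≠ 0 → qf α b' = 0 → qf β y = 0 → y ≠ 0 → qf β y' = 0 →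
      b' ∈ Submodule.span F {b} ∨ y' ∈ Submodule.span F {y} := by
    intro u w b b' y y' h h' hb hb0 hb' hy hy0 hy'
    have h0 : α b b' * β y y' = 0 := by
      rw [← T.pair, ← h, ← h', T.space.B_act hgI, T.pair, T.swap.qf_zero.1 Hc.singE, zero_mul]
    exact (mul_eq_zero.1 h0).imp (fun h => no_plane T.SU T.h2 h3κ hb hb' h hb0)
      (fun h => no_plane T.SW T.h2 h3μ hy hy' h hy0)
  have hspan : ∀ (K : Submodule F (ι → F)), g.val *ᵥ τ c x ∈ K → g.val *ᵥ τ c f ∈ K →
      g.val *ᵥ τ c z ∈ K → ∀ w, g.val *ᵥ τ c w ∈ K := fun K h1 h2 h3 w => by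
    let Φ := Matrix.mulVecLin g.val ∘ₗ τ c
    have he : e = z - f + qf β e • x := by rw [hze]; module
    have : Φ e ∈ K := by
      rw [he, map_add, map_sub, map_smul]
      exact add_mem (sub_mem h3 h2) (K.smul_mem _ h1)
    show Φ w ∈ K
    rw [D.expand w, map_add, map_add, map_smul, map_smul, map_smul]
    exact add_mem (add_mem (K.smul_mem _ h1) (K.smul_mem _ h2)) (K.smul_mem _ this)
  rcases share_three hb₂0 hb₃0 hy₂0 hy₃0 (hshare e₁ e₂ hb₁ hb₁0 hb₂ hy₁ hy₁0 hy₂)
    (hshare e₁ e₃ hb₁ hb₁0 hb₃ hy₁ hy₁0 hy₃) (hshare e₂ e₃ hb₂ hb₂0 hb₃ hy₂ hy₂0 hy₃) with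
    ⟨m2, m3⟩ | ⟨m2, m3⟩
  · refine Or.inl (Pure.flip (τ := τ.flip) (pure_row T.swap hlose' hL.swap h3μ h3κ hs hg Hc.singE hc0
      hb₁0 fun w => ?_))
    obtain ⟨k2, rfl⟩ := Submodule.mem_span_singleton.1 m2
    obtain ⟨k3, rfl⟩ := Submodule.mem_span_singleton.1 m3
    obtain ⟨w', hw'⟩ := hspan (LinearMap.range (τ b₁)) ⟨y₁, e₁.symm⟩
      ⟨k2 • y₂, by rw [e₂, map_smul, map_smul, LinearMap.smul_apply]⟩
      ⟨k3 • y₃, by rw [e₃, map_smul, map_smul, LinearMap.smul_apply]⟩ w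
    exact ⟨w', hw'.symm⟩
  · refine PS.unflip (ps_row_col T.swap hlose' hL.swap (hsw.imp fun s h => ⟨h.1, h.2.flip⟩) h3μ h3κ hs
      hg Hc.singE hc0 hy₁0 fun w => ?_)
    obtain ⟨k2, rfl⟩ := Submodule.mem_span_singleton.1 m2
    obtain ⟨k3, rfl⟩ := Submodule.mem_span_singleton.1 m3
    obtain ⟨u, hu⟩ := hspan (LinearMap.range (τ.flip y₁)) ⟨b₁, e₁.symm⟩
      ⟨k2 • b₂, by rw [e₂, map_smul, map_smul]; rfl⟩
      ⟨k3 • b₃, by rw [e₃, map_smul, map_smul]; rfl⟩ w
    exact ⟨u, hu.symm⟩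

end Cfsg.Lib.Linear.OOTensor.Square
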