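import Cfsg.Agent.Lib.Linear.OOTensor.Square.Unip
import Cfsg.Agent.Lib.Linear.OrthSpinorApp

/-!
# An exchange of the factors in the commutator subgroup

The reflections of one factor, lifted, take both values of the spinor character on the determinant
`-1`, so every isometry can be corrected by them into the commutator subgroup.
-/

set_option autoImplicit false
set_option linter.unusedSectionVars false
set_option linter.unusedSimpArgs false
set_option linter.style.haveILetI false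

namespace Cfsg.Lib.Linear.OOTensor.Square

open Module
open scoped Matrix commutatorElement
open Cfsg.Lib.Linear.Orth

variable {ι κ μ : Type} [Fintype ι] [DecidableEq ι] [Fintype κ] [DecidableEq κ] [Fintype μ]
  [DecidableEq μ] {F : Type*} [Field F] {Q : (ι → F) → F} {B : LinearMap.BilinForm F (ι → F)}
  {α : LinearMap.BilinForm F (κ → F)} {β : LinearMap.BilinForm F (μ → F)}
  {τ : (κ → F) →ₗ[F] (μ → F) →ₗ[F] (ι → F)}

variable (T : Ten Q B α β τ)
include T

/-- A lifted reflection is a product of three reflections. -/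
theorem detSpin_lift [Fintype F] {x f e : μ → F} (D : Three β x f e) {a : κ → F}
    (ha : qf α a ≠ 0) :
    ∃ h : ↥(isometryGroup F Q), (h : GL ι F) = T.swap.liftR (rGL (qf α) a) ∧
      (detSpin Q h).1 = -1 ∧
      spin Q h = -(sqSign (qf α a) * sqSign ((-4 : F) * β e e)) := by
  have C := T.space
  have hαa : α a a ≠ 0 := fun h => ha (T.swap.qf_zero.2 h)
  have hQ : ∀ w, β w w ≠ 0 → Q (τ a w) ≠ 0 := fun w hw => by
    rw [T.Q_tau]
    exact mul_ne_zero (inv_ne_zero T.h2) (mul_ne_zero hαa hw)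
  have e0 : β (x + f) (x + f) = 2 := by
    simp [D.xx, D.ff, D.hyp.pair, D.hyp.pair' D.C]; norm_num
  have e1 : β (x - f) (x - f) = -2 := by
    simp [D.xx, D.ff, D.hyp.pair, D.hyp.pair' D.C]; norm_num
  have n0 : β (x + f) (x + f) ≠ 0 := by rw [e0]; exact T.h2
  have n1 : β (x - f) (x - f) ≠ 0 := by rw [e1]; exact neg_ne_zero.2 T.h2
  obtain ⟨g, hg, hd, hs⟩ := exists_refl_prod C T.h2 [τ a (x + f), τ a (x - f), τ a e]
    (by
      intro v hv
      simp only [List.mem_cons, List.not_mem_nil, or_false] at hv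
      rcases hv with rfl | rfl | rfl
      exacts [hQ _ n0, hQ _ n1, hQ _ D.ee])
  refine ⟨g, ?_, ?_, ?_⟩
  · have hgv : (g : GL ι F) = rGL Q (τ a (x + f)) * rGL Q (τ a (x - f)) * rGL Q (τ a e) := Units.ext (by
      rw [hg, Units.val_mul, Units.val_mul, rGL_val C (hQ _ n0), rGL_val C (hQ _ n1), rGL_val C (hQ _ D.ee)]
      simp [mul_assoc])
    rw [hgv]
    have hr : ∀ d, β d d ≠ 0 → ∀ u w, (rGL Q (τ a d)).val *ᵥ τ u w =
        τ u w - (2 * (α a u * β d w) / (α a a * β d d)) • τ a d := fun d hd u w => by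
      rw [rGL_act C (hQ d hd), T.Q_tau, T.pair]
      congr 2
      field_simp [T.h2, hαa, hd]
    have o1 : β (x - f) e = 0 := by simp [D.xe, D.fe]
    have o2 : β (x + f) e = 0 := by simp [D.xe, D.fe]
    have o3 : β (x + f) (x - f) = 0 := by simp [D.xx, D.ff, D.hyp.pair, D.hyp.pair' D.C]
    refine T.gl_ext fun u w => ?_
    rw [T.liftL_act, rGL_act T.SU ha, mul_act, mul_act, hr e D.ee, Matrix.mulVec_sub, Matrix.mulVec_smul,
      hr _ n1, hr _ n1 a e, o1, mul_zero, mul_zero, zero_div, zero_smul, sub_zero, Matrix.mulVec_sub,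
      Matrix.mulVec_sub, Matrix.mulVec_smul, Matrix.mulVec_smul, hr _ n0, hr _ n0 a (x - f), o3,
      hr _ n0 a e, o2, mul_zero, mul_zero, zero_div, zero_smul, sub_zero, sub_zero]
    have hw : τ a w = β f w • τ a x + β x w • τ a f + (β e w / β e e) • τ a e := by
      conv_lhs => rw [D.expand w]
      simp only [map_add, map_smul]
    conv_rhs => rw [map_sub, map_smul, LinearMap.sub_apply, LinearMap.smul_apply, hw]
    rw [e0, e1]
    simp only [qf, map_add, map_sub, LinearMap.add_apply, LinearMap.sub_apply]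
    match_scalars <;> field_simp [T.h2, hαa, D.ee] <;> ring
  · rw [hd]
    simp [pow_succ]
  · have hval : ([τ a (x + f), τ a (x - f), τ a e].map fun v => Q v).prod
        = (qf α a * qf α a) * (qf α a * ((-4 : F) * β e e)) := by
      simp only [List.map_cons, List.map_nil, List.prod_cons, List.prod_nil, T.Q_tau, e0, e1, qf]
      ring
    have h4 : (-4 : F) * β e e ≠ 0 := mul_ne_zero (neg_ne_zero.2 (by
      rw [show (4 : F) = 2 * 2 by norm_num]; exact mul_ne_zero T.h2 T.h2)) D.ee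
    rw [hs, hval, sqSign_mul T.h2 (mul_ne_zero ha ha) (mul_ne_zero ha h4), sqSign_mul T.h2 ha h4,
      sqSign_eq_one.2 ⟨_, rfl⟩, one_mul]
    simp [pow_succ]

/-- Correcting an isometry into the commutator subgroup. -/
theorem exists_correct [Fintype F] (h3κ : Fintype.card κ = 3) (h3μ : Fintype.card μ = 3)
    {J : GL ι F} (hJ : J ∈ isometryGroup F Q) :
    ∃ r ∈ isometryGroup F (qf α),
      J * T.swap.liftR r ∈ ⁅isometryGroup F Q, isometryGroup F Q⁆ := by
  classical
  have hcard : Fintype.card ι = 9 := by rw [card_eq T, h3κ, h3μ]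
  obtain ⟨x, f, H⟩ := exists_hyp' T.SW T.SW.ndeg_top (by
    rw [finrank_top, finrank_fintype_fun_eq_card]; omega)
  obtain ⟨e, D⟩ := exists_three T.SW T.h2 h3μ H
  have hchar : ringChar F ≠ 2 := fun hc => T.h2 (by
    haveI := ringChar.charP F
    have := CharP.cast_eq_zero F (ringChar F)
    rw [hc] at this
    exact_mod_cast this)
  obtain ⟨ν, hν⟩ := FiniteField.exists_nonsquare hchar
  have hν0 : ν ≠ 0 := fun h => hν (h ▸ ⟨0, (mul_zero 0).symm⟩)
  obtain ⟨a, ha⟩ := exists_value T.SU T.h2 (by omega) (one_ne_zero (α := F))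
  obtain ⟨b, hb⟩ := exists_value T.SU T.h2 (by omega) hν0
  have ha0 : qf α a ≠ 0 := by rw [ha]; exact one_ne_zero
  have hb0 : qf α b ≠ 0 := by rw [hb]; exact hν0
  obtain ⟨ga, hga, hda, hsa⟩ := detSpin_lift T D ha0
  obtain ⟨gb, hgb, hdb, hsb⟩ := detSpin_lift T D hb0
  set σ := sqSign ((-4 : F) * β e e)
  rw [ha, sqSign_eq_one.2 IsSquare.one, one_mul] at hsa
  rw [hb, show sqSign ν = -1 by rw [sqSign, if_neg hν], neg_one_mul, neg_neg] at hsb
  suffices h : ∃ r ∈ isometryGroup F (qf α), ∃ g : ↥(isometryGroup F Q),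
      (g : GL ι F) = T.swap.liftR r ∧ detSpin Q (⟨J, hJ⟩ * g) = 1 by
    obtain ⟨r, hr, g, hg, hd⟩ := h
    refine ⟨r, hr, ?_⟩
    have hk : (⟨J, hJ⟩ * g : ↥(isometryGroup F Q)) ∈ commutator ↥(isometryGroup F Q) := by
      rw [(omega_odd T.space T.h2 (by omega)).1]
      exact hd
    rw [← Subgroup.map_subtype_commutator]
    exact ⟨_, hk, by rw [← hg]; rfl⟩
  have hJd : (detSpin Q ⟨J, hJ⟩).1 = 1 ∨ (detSpin Q ⟨J, hJ⟩).1 = -1 :=
    (det_sq T.space hJ).imp (fun h => Units.ext h) fun h => Units.ext (show J.val.det = ((-1 : Fˣ) : F) by simpa using h)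
  have hra := rGL_mem T.SU ha0
  have hrb := rGL_mem T.SU hb0
  obtain ⟨s, hs⟩ : ∃ s, s = spin Q ⟨J, hJ⟩ := ⟨_, rfl⟩
  have hsd : ∀ g, (detSpin Q g).2 = spin Q g := fun _ => rfl
  rcases hJd with hJd | hJd
  · rcases Int.units_eq_one_or s with h | h
    · refine ⟨1, one_mem _, 1, by simp, ?_⟩
      rw [mul_one]
      exact Prod.ext hJd (by rw [hsd, ← hs, h]; rfl)
    · refine ⟨_, mul_mem hra hrb, ga * gb, by rw [map_mul, Subgroup.coe_mul, hga, hgb], ?_⟩
      refine Prod.ext ?_ ?_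
      · rw [map_mul, map_mul, Prod.fst_mul, Prod.fst_mul, hJd, hda, hdb]; simp
      · rw [map_mul, map_mul, Prod.snd_mul, Prod.snd_mul, hsd, hsd, hsd, ← hs, h, hsa, hsb]
        rcases Int.units_eq_one_or σ with hσ | hσ <;> simp [hσ]
  · by_cases h : s = σ
    · refine ⟨_, hrb, gb, hgb, Prod.ext ?_ ?_⟩
      · rw [map_mul, Prod.fst_mul, hJd, hdb]; simp
      · rw [map_mul, Prod.snd_mul, hsd, hsd, ← hs, h, hsb]
        exact Int.units_mul_self σ
    · refine ⟨_, hra, ga, hga, Prod.ext ?_ ?_⟩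
      · rw [map_mul, Prod.fst_mul, hJd, hda]; simp
      · rw [map_mul, Prod.snd_mul, hsd, hsd, ← hs, hsa,
          (Int.units_ne_iff_eq_neg).1 h]
        rcases Int.units_eq_one_or σ with hσ | hσ <;> simp [hσ]

end Cfsg.Lib.Linear.OOTensor.Square
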