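import Cfsg.Agent.Lib.Linear.OOTensor.Square.Orbit
import Cfsg.Agent.Lib.Linear.OOTensor.Square.Swap
import Cfsg.Agent.Lib.Linear.OOTensor.Max
import Cfsg.Agent.Lib.Linear.AschOrth.Product

/-!
# The stabiliser of a tensor square in dimension nine is maximal
-/

set_option autoImplicit false
set_option linter.unusedSectionVars false
set_option linter.unusedSimpArgs false
set_option linter.style.haveILetI false

namespace Cfsg.Lib.Linear.OOTensor.Square

open Module
open scoped Matrix Kronecker commutatorElement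
open Cfsg.Lib.Linear.Orth
open Cfsg.Lib.Linear.SpOTensor (tensor tensor_apply span_tensor mem_of_tensor bilin_eq_sum)
open Cfsg.Lib.Linear.AschOrth (arrow swapMat tm tm_act tensor_le_wreath swapMat_sq)

variable {ι : Type} [Fintype ι] [DecidableEq ι] {F : Type*} [Field F] {Q : (ι → F) → F}

/-- The exchange of the factors. -/
theorem exists_exchange {e : ι ≃ Fin 3 × Fin 3} {P : GL ι F} :
    ∃ J ∈ Cfsg.Geo.tensorWreathSubgroup 3 2 (e.trans (arrow 3)) P,
      ∀ a x, J.val *ᵥ tensor e P a x = tensor e P x a := by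
  let y : GL (Fin 3 × Fin 3) F := ⟨swapMat 3 F, swapMat 3 F, swapMat_sq, swapMat_sq⟩
  let x₀ : GL (Fin 2 → Fin 3) F := Cfsg.Geo.glReindex (arrow 3) y
  have hx₀ : x₀.val.submatrix (arrow 3) (arrow 3) = swapMat 3 F := by
    show ((swapMat 3 F).submatrix (arrow 3).symm (arrow 3).symm).submatrix (arrow 3) (arrow 3) = _
    rw [Matrix.submatrix_submatrix, Equiv.symm_comp_self, Matrix.submatrix_id_id]
  have hmem : x₀ ∈ Cfsg.Geo.tensorWreathStandard 3 2 F := by
    refine Subgroup.subset_closure (Or.inr ⟨Equiv.swap 0 1, fun p q => ?_⟩)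
    have hcomp : ((arrow 3).symm q = ((arrow 3).symm p).swap) ↔ q = p ∘ Equiv.swap (0 : Fin 2) 1 := by
      rw [Equiv.symm_apply_eq, show arrow 3 ((arrow 3).symm p).swap = p ∘ Equiv.swap (0 : Fin 2) 1 by
        funext k; fin_cases k <;> rfl]
    show swapMat 3 F ((arrow 3).symm p) ((arrow 3).symm q) = _
    simp only [swapMat, Matrix.submatrix_apply, id_eq, Matrix.one_apply, ← hcomp, eq_comm]
  refine ⟨_, ⟨_, ⟨x₀, hmem, rfl⟩, rfl⟩, fun a x => ?_⟩
  have hval : ((MulAut.conj P).toMonoidHom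
      ((Cfsg.Geo.glReindex (e.trans (arrow 3)).symm).toMonoidHom x₀)).val = tm e P (swapMat 3 F) := by
    rw [tm, ← hx₀]; rfl
  rw [hval, tensor_apply, tensor_apply, tm_act]
  congr 2
  funext p
  simp [swapMat, Matrix.mulVec, dotProduct, Matrix.one_apply, mul_comm]

/-- The stabiliser is maximal. -/
theorem maximal [Fintype F] (e : ι ≃ (Fin 2 → Fin 3)) (P : GL ι F)
    (hQ : Cfsg.Geo.IsNondegenerateQuadraticForm Q) (hodd : Odd (Fintype.card F))
    (h5 : 5 ≤ Fintype.card F) {f₁ : (Fin 3 → F) → (Fin 3 → F) → F}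
    (hf₁ : Cfsg.Geo.IsSymmetricForm f₁)
    (hT : Cfsg.Geo.IsTensorPowerFormStructure id (QuadraticMap.polar Q) f₁ e P) :
    Cfsg.Geo.IsMaximalIn (Cfsg.Geo.omegaGL Q)
      (Cfsg.Geo.tensorWreathSubgroup 3 2 e P ⊓ Cfsg.Geo.omegaGL Q) := by
  classical
  obtain ⟨e', rfl⟩ : ∃ e' : ι ≃ Fin 3 × Fin 3, e = e'.trans (arrow 3) :=
    ⟨e.trans (arrow 3).symm, Equiv.ext fun i => by simp⟩
  obtain ⟨B, C⟩ := exists_space hQ
  obtain ⟨c, hc0, hc⟩ := hT
  have hn : Fintype.card ι = 9 := by simpa using Fintype.card_congr e'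
  have h2 : (2 : F) ≠ 0 := two_ne_zero_of_odd_card hodd
  let β : LinearMap.BilinForm F (Fin 3 → F) := LinearMap.mk₂ F f₁ hf₁.bilinear.add_left
    hf₁.bilinear.smul_left hf₁.bilinear.add_right hf₁.bilinear.smul_right
  have T : Ten Q B (c • β) β (tensor e' P) := by
    refine ⟨h2, C, fun v hv => ?_, fun a b => ?_, fun v hv => ?_, hf₁.symm, fun a x b y => ?_,
      span_tensor e' P⟩
    · by_contra hne
      obtain ⟨x, hx⟩ := (hf₁.nondegenerate v hne).2
      exact mul_ne_zero hc0 hx (hv x)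
    · show c * f₁ a b = c * f₁ b a
      rw [hf₁.symm]
    · by_contra hne
      obtain ⟨x, hx⟩ := (hf₁.nondegenerate v hne).2
      exact hx (hv x)
    rw [← C.polar]
    show QuadraticMap.polar Q
      ((P : Matrix ι ι F) *ᵥ ((fun q : Fin 2 → Fin 3 => a (q 0) * x (q 1)) ∘ e'.trans (arrow 3)))
      ((P : Matrix ι ι F) *ᵥ ((fun q : Fin 2 → Fin 3 => b (q 0) * y (q 1)) ∘ e'.trans (arrow 3))) = _
    rw [hc, LinearMap.smul_apply, LinearMap.smul_apply, smul_eq_mul, bilin_eq_sum β a b,
      bilin_eq_sum β x y, mul_assoc]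
    congr 1
    rw [← (arrow 3).sum_comp]
    simp only [← (arrow 3).sum_comp (fun b_1 : Fin 2 → Fin 3 => _), Fin.prod_univ_two, id_eq]
    simp only [Fintype.sum_prod_type, Finset.sum_mul, Finset.mul_sum]
    rw [Finset.sum_comm]
    refine Finset.sum_congr rfl fun p _ => ?_
    refine Eq.trans (Finset.sum_congr rfl fun i _ => Finset.sum_comm) ?_
    rw [Finset.sum_comm]
    refine Finset.sum_congr rfl fun q _ => Finset.sum_congr rfl fun i _ =>
      Finset.sum_congr rfl fun j _ => ?_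
    simp only [β, LinearMap.mk₂_apply, arrow, Cfsg.Geo.gramMatrix, finTwoArrowEquiv_symm_apply,
      Matrix.of_apply, Matrix.cons_val_zero, Matrix.cons_val_one, Matrix.cons_val_fin_one]
    ring
  have hs : ∃ s : F, s ≠ 0 ∧ s * s ≠ 1 := by
    by_contra hcon
    push Not at hcon
    have hall : ∀ s : F, s ∈ ({0, 1, -1} : Finset F) := fun s => by
      rcases eq_or_ne s 0 with rfl | hs
      · simp
      have h4 : (s - 1) * (s + 1) = 0 := by linear_combination hcon s hs
      rcases mul_eq_zero.1 h4 with h | h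
      · simp [sub_eq_zero.1 h]
      · simp [eq_neg_of_add_eq_zero_left h]
    have hle : Fintype.card F ≤ 3 :=
      (Finset.card_le_card (fun s _ => hall s : (Finset.univ : Finset F) ⊆ _)).trans
        Finset.card_le_three
    omega
  set W := Cfsg.Geo.tensorWreathSubgroup 3 2 (e'.trans (arrow 3)) P
  have hΩ : Cfsg.Geo.omegaGL Q = Root Q B ⊤ := omegaGL_eq C (by omega)
  have hcomm : Cfsg.Geo.omegaGL Q = ⁅isometryGroup F Q, isometryGroup F Q⁆ := by
    rw [Cfsg.Geo.omegaGL, Subgroup.map_subtype_commutator]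
  have hinj : ∀ g : GL (Fin 3) F, Function.Injective (Matrix.mulVecLin g.val) :=
    fun g => Orth.act_injective g
  have hpureW : ∀ {g : GL ι F}, Pure (tensor e' P) g → g ∈ W := fun {g} ⟨p, q, hpq⟩ =>
    tensor_le_wreath (mem_of_tensor e' P (Matrix.mulVecLin p.val) (Matrix.mulVecLin q.val) (hinj _)
      (hinj _) fun a x => hpq a x)
  obtain ⟨J, hJW, hJact⟩ := exists_exchange (e := e') (P := P)
  have hJsw : SwapAct (tensor e' P) J := ⟨LinearMap.id, LinearMap.id, fun a x => hJact a x⟩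
  have hJI : J ∈ isometryGroup F Q := by
    refine mem_iso.2 fun v => ?_
    have e : B.comp (Matrix.mulVecLin J.val) (Matrix.mulVecLin J.val) = B :=
      T.hom_ext fun a x => T.hom_ext fun b y => by
        simp only [LinearMap.BilinForm.comp_apply, Matrix.mulVecLin_apply, hJact, T.pair,
          LinearMap.smul_apply, smul_eq_mul]
        ring
    rw [T.Q_eq, T.Q_eq]
    exact congrArg _ (LinearMap.congr_fun₂ e v v)
  refine ⟨lt_of_le_of_ne inf_le_right fun h => ?_, fun M hM hMΩ => ?_⟩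
  · exact AschOrth.not_omega_le_wreath C h2 (by omega) le_rfl (h ▸ inf_le_left)
  have hOver : Over T M := by
    refine ⟨hMΩ.trans (hΩ ▸ root_le_iso C ⊤), fun x a hx ha => hM ⟨?_, ?_⟩,
      fun u a hu hua => hM ⟨?_, ?_⟩⟩
    · exact hpureW (T.liftR_pure _)
    · rw [SetLike.mem_coe, hcomm]
      exact liftR_mem_comm T (by simp) hx ha
    · exact hpureW (Pure.flip (τ := (tensor e' P).flip) (T.swap.liftR_pure _))
    · rw [SetLike.mem_coe, hcomm]
      exact liftR_mem_comm T.swap (by simp) hu hua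
  have hsw : ∃ s ∈ M, SwapAct (tensor e' P) s := by
    obtain ⟨r, hr, hs⟩ := exists_correct T (Fintype.card_fin 3) (Fintype.card_fin 3) hJI
    have hp : Pure (tensor e' P) (T.swap.liftR r) :=
      Pure.flip (τ := (tensor e' P).flip) (T.swap.liftR_pure r)
    exact ⟨_, hM ⟨mul_mem hJW (hpureW hp), by rw [SetLike.mem_coe, hcomm]; exact hs⟩,
      hJsw.mul_pure hp⟩
  by_cases hlose : Losing T M
  swap
  · exact Or.inr (le_antisymm hMΩ (hΩ ▸ root_le_of_long T (by simp) (by simp) hOver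
      fun {_x} hx hx0 {_φ} hφ =>
        long_all3 T (Fintype.card_fin 3) (Fintype.card_fin 3) hOver hlose hx hx0 hφ))
  by_cases hlose' : Losing T.swap M
  swap
  · exact Or.inr (le_antisymm hMΩ (hΩ ▸ root_le_of_long T.swap (by simp) (by simp) hOver.swap
      fun {_x} hx hx0 {_φ} hφ =>
        long_all3 T.swap (Fintype.card_fin 3) (Fintype.card_fin 3) hOver.swap hlose' hx hx0 hφ))
  refine Or.inl (le_antisymm (le_inf (fun g hg => ?_) hMΩ) hM)
  rcases all_ps T hlose hlose' hOver hsw h5 (Fintype.card_fin 3) (Fintype.card_fin 3) hs hg with h | h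
  · exact hpureW h
  · have h1 := hpureW (SwapAct.mul T (by simp) (by simp) hJsw h)
    have h3 := mul_mem (inv_mem hJW) h1
    rwa [inv_mul_cancel_left] at h3

end Cfsg.Lib.Linear.OOTensor.Square
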