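import Cfsg.Agent.Lib.Linear.OOTensor.Square.Conj

/-!
# All elements permute the factors

The sum of the translates of the form other than itself is symmetric in the first two arguments
for both factors, as is seen on the orbits of a group of Siegel elements; being antisymmetric it
vanishes, so the form is invariant.
-/

set_option autoImplicit false
set_option linter.unusedSectionVars false
set_option linter.unusedSimpArgs false
set_option linter.style.haveILetI false
set_option maxSynthPendingDepth 3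

namespace Cfsg.Lib.Linear.OOTensor.Square

open Module
open scoped Matrix
open Cfsg.Lib.Linear.Orth

variable {ι κ μ : Type} [Fintype ι] [DecidableEq ι] [Fintype κ] [DecidableEq κ] [Fintype μ]
  [DecidableEq μ] {F : Type*} [Field F] {Q : (ι → F) → F} {B : LinearMap.BilinForm F (ι → F)}
  {α : LinearMap.BilinForm F (κ → F)} {β : LinearMap.BilinForm F (μ → F)}
  {τ : (κ → F) →ₗ[F] (μ → F) →ₗ[F] (ι → F)} {L : Subgroup (GL ι F)}

open Classical in
/-- The translates of the form other than itself. -/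
noncomputable def orb (T : Ten Q B α β τ) (L : Subgroup (GL ι F)) [Finite F] :
    Finset (Four4 ι F) :=
  ((((L : Set (GL ι F)).toFinite.image fun X => pull X (curv T))).toFinset).erase (curv T)

/-- The sum of the translates. -/
noncomputable def rest (T : Ten Q B α β τ) (L : Subgroup (GL ι F)) [Finite F] : Four4 ι F :=
  ∑ φ ∈ orb T L, φ

variable (T : Ten Q B α β τ)
include T

theorem mem_orb [Finite F] {φ : Four4 ι F} :
    φ ∈ orb T L ↔ φ ≠ curv T ∧ ∃ X ∈ L, pull X (curv T) = φ := by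
  classical
  simp [orb]

theorem curv_swap : curv T.swap = curv T := by
  refine four_ext_tau T fun a x b y c z d w => ?_
  rw [curv_pure T, show τ a x = τ.flip x a from rfl, show τ b y = τ.flip y b from rfl,
    show τ c z = τ.flip z c from rfl, show τ d w = τ.flip w d from rfl, curv_pure T.swap]
  rw [T.sα d c, T.sβ w z]
  ring

theorem rest_swap [Finite F] : rest T.swap L = rest T L := by
  exact Finset.sum_congr (Finset.ext fun φ => by simp [mem_orb T.swap, mem_orb T, curv_swap T])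
    fun _ _ => rfl

theorem rest_apply [Finite F] (v₁ v₂ v₃ v₄ : ι → F) :
    rest T L v₁ v₂ v₃ v₄ = ∑ φ ∈ orb T L, φ v₁ v₂ v₃ v₄ := by
  simp [rest, LinearMap.sum_apply]

theorem rest_anti [Finite F] (v₁ v₂ v₃ v₄ : ι → F) :
    rest T L v₂ v₁ v₃ v₄ = -rest T L v₁ v₂ v₃ v₄ := by
  rw [rest_apply T, rest_apply T, ← Finset.sum_neg_distrib]
  refine Finset.sum_congr rfl fun φ hφ => ?_
  obtain ⟨-, X, -, rfl⟩ := (mem_orb T).1 hφ
  have h := LinearMap.congr_fun₂ (LinearMap.congr_fun₂ (curv_anti T) (X.val *ᵥ v₁) (X.val *ᵥ v₂))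
    (X.val *ᵥ v₃) (X.val *ᵥ v₄)
  simpa [pull_apply] using h

/-- An element fixing the form preserves the sum. -/
theorem rest_inv [Finite F] {h : GL ι F} (hh : h ∈ L) (hfix : pull h (curv T) = curv T)
    (v₁ v₂ v₃ v₄ : ι → F) :
    rest T L (h.val *ᵥ v₁) (h.val *ᵥ v₂) (h.val *ᵥ v₃) (h.val *ᵥ v₄) = rest T L v₁ v₂ v₃ v₄ := by
  rw [rest_apply T, rest_apply T]
  have hfix' : pull h⁻¹ (curv T) = curv T := by
    conv_lhs => rw [← hfix, ← pull_mul, mul_inv_cancel, pull_one]
  have hmem : ∀ g ∈ L, pull g (curv T) = curv T → ∀ φ ∈ orb T L, pull g φ ∈ orb T L := by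
    intro g hg hgfix φ hφ
    obtain ⟨hne, X, hX, rfl⟩ := (mem_orb T).1 hφ
    refine (mem_orb T).2 ⟨fun e => hne ?_, X * g, mul_mem hX hg, pull_mul _ _ _⟩
    have h1 : pull g⁻¹ (curv T) = curv T := by
      conv_lhs => rw [← hgfix, ← pull_mul, mul_inv_cancel, pull_one]
    rw [← pull_one (pull X (curv T)), ← mul_inv_cancel g, pull_mul, e, h1]
  refine Finset.sum_bij' (fun φ _ => pull h φ) (fun φ _ => pull h⁻¹ φ)
    (fun φ hφ => hmem h hh hfix φ hφ) (fun φ hφ => hmem h⁻¹ (inv_mem hh) hfix' φ hφ)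
    (fun φ _ => by rw [← pull_mul, mul_inv_cancel, pull_one])
    (fun φ _ => by rw [← pull_mul, inv_mul_cancel, pull_one]) fun φ _ => rfl

variable (hlose : Losing T L) (hlose' : Losing T.swap L) (hL : Over T L)
  (hsw : ∃ s ∈ L, SwapAct τ s)
include hlose hlose' hL hsw

/-- The sum is symmetric in the vectors of the second factor of the first two arguments. -/
theorem rest_sym [Fintype F] (h5 : 5 ≤ Fintype.card F) (h3κ : Fintype.card κ = 3)
    (h3μ : Fintype.card μ = 3) (hs : ∃ s : F, s ≠ 0 ∧ s * s ≠ 1) (a₁ a₂ a₃ a₄ : κ → F)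
    (w₁ w₂ w₃ w₄ : μ → F) :
    rest T L (τ a₁ w₂) (τ a₂ w₁) (τ a₃ w₃) (τ a₄ w₄) =
      rest T L (τ a₁ w₁) (τ a₂ w₂) (τ a₃ w₃) (τ a₄ w₄) := by
  classical
  obtain ⟨P, hP⟩ := CharP.exists F
  haveI := hP
  haveI hPf : Fact P.Prime := ⟨CharP.char_is_prime F P⟩
  have hPodd : Odd P := hPf.out.odd_of_ne_two fun h => T.h2 (by
    subst h; exact_mod_cast CharP.cast_eq_zero F 2)
  obtain ⟨x, f, H⟩ := exists_hyp' T.SW T.SW.ndeg_top (by
    rw [finrank_top, finrank_fintype_fun_eq_card]; omega)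
  obtain ⟨e, D⟩ := exists_three T.SW T.h2 h3μ H
  let U : F → GL ι F := fun c => T.liftR (sGL (qf β) β x (c • e))
  have hUL : ∀ c, U c ∈ L := fun c => hL.right x _ H.singE (by simp [D.xe])
  have hUU : ∀ c d, U c * U d = U (c + d) := fun c d => by
    simp only [U]
    rw [← map_mul, sGL_mul T.SW H.singE (by simp [D.xe]) (by simp [D.xe]), add_smul]
  have hU0 : U 0 = 1 := by
    simp only [U]
    rw [zero_smul, SpTensor.sGL_zero_right T.SW H.singE, map_one]
  have hpU : ∀ c d (φ : Four4 ι F), pull (U c) (pull (U d) φ) = pull (U (c + d)) φ := fun c d φ => by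
    rw [← pull_mul, hUU, add_comm]
  have hfixU : ∀ c, pull (U c) (curv T) = curv T := fun c =>
    curv_ps T (hL.le (hUL c)) (Or.inl (T.liftR_pure _))
  let z : Fin 3 → μ → F := ![x, e, f]
  let k : Fin 3 → F := ![1, -β e e, -qf β e]
  have hterm : ∀ i : Fin 3, ∃ Dz : ℕ → μ → F, Dz i.val = k i • x ∧ ∀ c a,
      (U c).val *ᵥ τ a (z i) = ∑ j ∈ Finset.range (i.val + 1), c ^ j • τ a (Dz j) := by
    intro i
    fin_cases i
    · exact ⟨fun _ => x, by simp [k], fun c a => by simp [U, z, T.liftR_act, D.sGL_x]⟩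
    · refine ⟨fun j => if j = 0 then e else -β e e • x, by simp [k], fun c a => ?_⟩
      simp [U, z, T.liftR_act, D.sGL_e, Finset.sum_range_succ, smul_smul]
      module
    · refine ⟨fun j => if j = 0 then f else if j = 1 then e else -qf β e • x, by simp [k], fun c a => ?_⟩
      simp [U, z, T.liftR_act, D.sGL_f, Finset.sum_range_succ, smul_smul]
      module
  choose Dz hDtop hDact using hterm
  -- the sum over one orbit
  have horbit : ∀ (φ : Four4 ι F) (i j l m : Fin 3) (b₁ b₂ b₃ b₄ : κ → F),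
      i.val + j.val + l.val + m.val ≤ 4 →
      ∑ c : F, pull (U c) φ (τ b₁ (z i)) (τ b₂ (z j)) (τ b₃ (z l)) (τ b₄ (z m)) =
        (∑ c : F, c ^ (i.val + j.val + l.val + m.val)) * (k i * k j * k l * k m) *
          φ (τ b₁ x) (τ b₂ x) (τ b₃ x) (τ b₄ x) := by
    intro φ i j l m b₁ b₂ b₃ b₄ hle
    simp only [pull_apply, hDact, map_sum, map_smul, LinearMap.sum_apply, LinearMap.smul_apply,
      smul_eq_mul, Finset.mul_sum]
    have key : ∀ i' ∈ Finset.range (i.val + 1), ∀ j' ∈ Finset.range (j.val + 1),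
        ∀ l' ∈ Finset.range (l.val + 1), ∀ m' ∈ Finset.range (m.val + 1),
        ¬ (i' = i.val ∧ j' = j.val ∧ l' = l.val ∧ m' = m.val) →
        ∀ C : F, ∑ c : F, c ^ (i' + j' + l' + m') * C = 0 := by
      intro i' hi j' hj l' hl m' hm hne C
      simp only [Finset.mem_range] at hi hj hl hm
      rw [← Finset.sum_mul, FiniteField.sum_pow_lt_card_sub_one (K := F) _ (by omega), zero_mul]
    calc (_ : F) = ∑ m' ∈ Finset.range (m.val + 1), ∑ l' ∈ Finset.range (l.val + 1),
          ∑ j' ∈ Finset.range (j.val + 1), ∑ i' ∈ Finset.range (i.val + 1), ∑ c : F,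
            c ^ (i' + j' + l' + m') *
              φ (τ b₁ (Dz i i')) (τ b₂ (Dz j j')) (τ b₃ (Dz l l')) (τ b₄ (Dz m m')) := by
          rw [Finset.sum_comm]
          refine Finset.sum_congr rfl fun m' _ => ?_
          rw [Finset.sum_comm]
          refine Finset.sum_congr rfl fun l' _ => ?_
          rw [Finset.sum_comm]
          refine Finset.sum_congr rfl fun j' _ => ?_
          rw [Finset.sum_comm]
          refine Finset.sum_congr rfl fun i' _ => Finset.sum_congr rfl fun c _ => ?_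
          ring
      _ = ∑ c : F, c ^ (i.val + j.val + l.val + m.val) *
            φ (τ b₁ (Dz i i.val)) (τ b₂ (Dz j j.val)) (τ b₃ (Dz l l.val)) (τ b₄ (Dz m m.val)) := by
          rw [Finset.sum_eq_single m.val, Finset.sum_eq_single l.val, Finset.sum_eq_single j.val,
            Finset.sum_eq_single i.val]
          · exact fun i' hi hne => key i' hi _ (by simp) _ (by simp) _ (by simp) (fun h => hne h.1) _
          · simp
          · exact fun j' hj hne => Finset.sum_eq_zero fun i' hi =>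
              key i' hi j' hj _ (by simp) _ (by simp) (fun h => hne h.2.1) _
          · simp
          · exact fun l' hl hne => Finset.sum_eq_zero fun j' hj => Finset.sum_eq_zero fun i' hi =>
              key i' hi j' hj l' hl _ (by simp) (fun h => hne h.2.2.1) _
          · simp
          · exact fun m' hm hne => Finset.sum_eq_zero fun l' hl => Finset.sum_eq_zero fun j' hj =>
              Finset.sum_eq_zero fun i' hi => key i' hi j' hj l' hl m' hm (fun h => hne h.2.2.2) _
          · simp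
      _ = _ := by
          rw [hDtop, hDtop, hDtop, hDtop]
          simp only [map_smul, LinearMap.smul_apply, smul_eq_mul, Finset.sum_mul]
          refine Finset.sum_congr rfl fun c _ => ?_
          ring
  -- the sum over unions of orbits
  have hunion : ∀ s ⊆ orb T L, (∀ φ ∈ s, ∀ c, pull (U c) φ ∈ s) →
      ∀ (i j l m : Fin 3) (b₁ b₂ b₃ b₄ : κ → F), i.val + j.val + l.val + m.val ≤ 4 →
        ∑ φ ∈ s, φ (τ b₁ (z j)) (τ b₂ (z i)) (τ b₃ (z l)) (τ b₄ (z m)) =
          ∑ φ ∈ s, φ (τ b₁ (z i)) (τ b₂ (z j)) (τ b₃ (z l)) (τ b₄ (z m)) := by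
    intro s
    induction s using Finset.strongInduction with
    | H s ih =>
      intro hsub hcl i j l m b₁ b₂ b₃ b₄ hle
      rcases s.eq_empty_or_nonempty with rfl | ⟨φ, hφ⟩
      · simp
      obtain ⟨hne, X, hX, hXφ⟩ := (mem_orb T).1 (hsub hφ)
      have hXps : ¬ PS τ X := fun h => hne (by rw [← hXφ]; exact curv_ps T (hL.le hX) h)
      have hinj : Function.Injective fun c => pull (U c) φ := by
        intro a b hab
        by_contra hab'
        set d := a + -b with hd
        have hd0 : d ≠ 0 := fun h => hab' (add_neg_eq_zero.1 h)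
        have h1 : pull (U d) φ = φ := by
          have h := congrArg (pull (U (-b))) hab
          simp only [hpU] at h
          rw [neg_add_cancel, hU0, pull_one, add_comm] at h
          exact h
        have hnat : ∀ n : ℕ, pull (U ((n : F) * d)) φ = φ := fun n => by
          induction n with
          | zero => rw [Nat.cast_zero, zero_mul, hU0, pull_one]
          | succ n ih => rw [Nat.cast_succ, add_mul, one_mul, ← hpU, h1, ih]
        obtain ⟨r, hr⟩ := hPodd
        set hlf := ((r + 1 : ℕ) : F) * d with hhlf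
        have h2 : hlf + hlf = d := by
          have e : ((P + 1 : ℕ) : F) = 1 := by rw [Nat.cast_succ, CharP.cast_eq_zero, zero_add]
          rw [hr] at e
          rw [hhlf, ← add_mul, ← Nat.cast_add, show r + 1 + (r + 1) = 2 * r + 1 + 1 by ring, e, one_mul]
        have hY : PS τ (X * U hlf * X⁻¹) :=
          ps_of_curv T hlose hlose' hL hsw h3κ h3μ hs
            (mul_mem (mul_mem hX (hUL _)) (inv_mem hX)) (by
              rw [pull_mul, pull_mul, hXφ, hnat, ← hXφ, ← pull_mul, mul_inv_cancel, pull_one])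
        refine hXps (ps_of_conj T hlose hlose' hL hsw P h3κ h3μ hs D hd0 hX ?_)
        have e : X * T.liftR (sGL (qf β) β x (d • e)) * X⁻¹ =
            (X * U hlf * X⁻¹) * (X * U hlf * X⁻¹) := by
          show X * U d * X⁻¹ = _
          rw [← h2, ← hUU]
          group
        rw [e]
        rcases hY with h | h
        · exact h.mul h
        · exact h.mul T (by omega) (by omega) h
      set O := (Finset.univ : Finset F).image fun c => pull (U c) φ with hO
      have hOs : O ⊆ s := fun ψ hψ => by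
        obtain ⟨c, -, rfl⟩ := Finset.mem_image.1 hψ
        exact hcl φ hφ c
      have hlt : s \ O ⊂ s := Finset.sdiff_ssubset hOs
        ⟨φ, Finset.mem_image.2 ⟨0, Finset.mem_univ _, by rw [hU0, pull_one]⟩⟩
      have h1 := ih _ hlt (Finset.sdiff_subset.trans hsub) (fun ψ hψ c => by
        obtain ⟨hψs, hψO⟩ := Finset.mem_sdiff.1 hψ
        refine Finset.mem_sdiff.2 ⟨hcl ψ hψs c, fun hm => hψO ?_⟩
        obtain ⟨a, -, ha⟩ := Finset.mem_image.1 hm
        refine Finset.mem_image.2 ⟨-c + a, Finset.mem_univ _, ?_⟩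
        rw [← hpU, ha, hpU, neg_add_cancel, hU0, pull_one]) i j l m b₁ b₂ b₃ b₄ hle
      rw [← Finset.sum_sdiff hOs, ← Finset.sum_sdiff hOs, h1, hO,
        Finset.sum_image hinj.injOn, Finset.sum_image hinj.injOn,
        horbit φ j i l m _ _ _ _ (by omega), horbit φ i j l m _ _ _ _ hle,
        Nat.add_comm j.val i.val]
      ring
  have hclosed : ∀ φ ∈ orb T L, ∀ c, pull (U c) φ ∈ orb T L := fun φ hφ c => by
    obtain ⟨hne, X, hX, rfl⟩ := (mem_orb T).1 hφ
    refine (mem_orb T).2 ⟨fun h => hne ?_, X * U c, mul_mem hX (hUL c), pull_mul _ _ _⟩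
    rw [← pull_one (pull X (curv T)), ← hU0, ← neg_add_cancel c, ← hpU, h, hfixU]
  have hlow : ∀ (i j l m : Fin 3) (b₁ b₂ b₃ b₄ : κ → F), i.val + j.val + l.val + m.val ≤ 4 →
      rest T L (τ b₁ (z j)) (τ b₂ (z i)) (τ b₃ (z l)) (τ b₄ (z m)) =
        rest T L (τ b₁ (z i)) (τ b₂ (z j)) (τ b₃ (z l)) (τ b₄ (z m)) := fun i j l m b₁ b₂ b₃ b₄ h => by
    rw [rest_apply T, rest_apply T]
    exact hunion _ Finset.Subset.rfl hclosed i j l m b₁ b₂ b₃ b₄ h
  -- the reversal of the weights
  obtain ⟨n, hn, nx, nf, ne⟩ := D.exists_swap (one_ne_zero (α := F))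
  have hnL := hL.root hn
  have hnz : ∀ i : Fin 3, ∃ c : F, c ≠ 0 ∧ n.val *ᵥ z i = c • z i.rev := fun i => by
    fin_cases i
    · exact ⟨-(1 * 1 * qf β e), by simpa using D.ns, by simpa [z, Fin.rev] using nx⟩
    · exact ⟨-1, by simp, by simpa [z, Fin.rev] using ne⟩
    · exact ⟨-(1 * 1 * qf β e)⁻¹, by simpa using D.ns, by simpa [z, Fin.rev] using nf⟩
  choose kn hkn hnact using hnz
  have hbasis : ∀ (i j l m : Fin 3) (b₁ b₂ b₃ b₄ : κ → F),
      rest T L (τ b₁ (z j)) (τ b₂ (z i)) (τ b₃ (z l)) (τ b₄ (z m)) =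
        rest T L (τ b₁ (z i)) (τ b₂ (z j)) (τ b₃ (z l)) (τ b₄ (z m)) := by
    intro i j l m b₁ b₂ b₃ b₄
    by_cases h : i.val + j.val + l.val + m.val ≤ 4
    · exact hlow i j l m b₁ b₂ b₃ b₄ h
    have hinv := rest_inv T hnL (curv_ps T (hL.le hnL) (Or.inl (T.liftR_pure n)))
    rw [← hinv (τ b₁ (z j)), ← hinv (τ b₁ (z i))]
    simp only [T.liftR_act, hnact, map_smul, LinearMap.smul_apply, smul_eq_mul]
    rw [hlow i.rev j.rev l.rev m.rev b₁ b₂ b₃ b₄ (by simp only [Fin.val_rev]; omega)]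
    ring
  -- linearity
  let R := rest T L
  let Φ : (μ → F) →ₗ[F] (μ → F) →ₗ[F] LinearMap.BilinForm F (μ → F) :=
    LinearMap.mk₂ F (fun u v => (R (τ a₁ v) (τ a₂ u)).comp (τ a₃) (τ a₄))
      (fun _ _ _ => LinearMap.ext₂ fun _ _ => by simp) (fun _ _ _ => LinearMap.ext₂ fun _ _ => by simp)
      (fun _ _ _ => LinearMap.ext₂ fun _ _ => by simp) (fun _ _ _ => LinearMap.ext₂ fun _ _ => by simp)
  let Ψ : (μ → F) →ₗ[F] (μ → F) →ₗ[F] LinearMap.BilinForm F (μ → F) :=
    LinearMap.mk₂ F (fun u v => (R (τ a₁ u) (τ a₂ v)).comp (τ a₃) (τ a₄))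
      (fun _ _ _ => LinearMap.ext₂ fun _ _ => by simp) (fun _ _ _ => LinearMap.ext₂ fun _ _ => by simp)
      (fun _ _ _ => LinearMap.ext₂ fun _ _ => by simp) (fun _ _ _ => LinearMap.ext₂ fun _ _ => by simp)
  have e : Φ = Ψ := LinearMap.ext_on_range D.span fun i => LinearMap.ext_on_range D.span fun j =>
    LinearMap.ext_on_range D.span fun l => LinearMap.ext_on_range D.span fun m =>
      hbasis i j l m a₁ a₂ a₃ a₄
  exact LinearMap.congr_fun₂ (LinearMap.congr_fun₂ e w₁ w₂) w₃ w₄

/-- The group permutes the factors. -/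
theorem all_ps [Fintype F] (h5 : 5 ≤ Fintype.card F) (h3κ : Fintype.card κ = 3)
    (h3μ : Fintype.card μ = 3) (hs : ∃ s : F, s ≠ 0 ∧ s * s ≠ 1) {g : GL ι F} (hg : g ∈ L) :
    PS τ g := by
  classical
  have hzero : rest T L = 0 := by
    refine four_ext_tau T fun a x b y c z d w => ?_
    have h1 := rest_sym T hlose hlose' hL hsw h5 h3κ h3μ hs b a c d x y z w
    have h2 := rest_sym T.swap hlose' hlose hL.swap (hsw.imp fun s h => ⟨h.1, h.2.flip⟩) h5 h3μ h3κ hs
      x y z w a b c d
    rw [rest_swap T] at h2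
    simp only [LinearMap.flip_apply] at h2
    have h3 := rest_anti T (L := L) (τ a x) (τ b y) (τ c z) (τ d w)
    rw [h1, h2] at h3
    have h4 : (2 : F) * rest T L (τ a x) (τ b y) (τ c z) (τ d w) = 0 := by linear_combination h3
    simpa using (mul_eq_zero.1 h4).resolve_left T.h2
  refine ps_of_curv T hlose hlose' hL hsw h3κ h3μ hs hg ?_
  let O : Finset (Four4 ι F) := insert (curv T) (orb T L)
  have hmem : ∀ h ∈ L, ∀ φ ∈ O, pull h φ ∈ O := by
    intro h hh φ hφ
    obtain ⟨X, hX, rfl⟩ : ∃ X ∈ L, pull X (curv T) = φ := by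
      rcases Finset.mem_insert.1 hφ with rfl | hφ
      · exact ⟨1, one_mem _, pull_one _⟩
      · exact ((mem_orb T).1 hφ).2
    rw [← pull_mul]
    by_cases e : pull (X * h) (curv T) = curv T
    · exact Finset.mem_insert.2 (Or.inl e)
    · exact Finset.mem_insert.2 (Or.inr ((mem_orb T).2 ⟨e, _, mul_mem hX hh, rfl⟩))
  have hsum : ∑ φ ∈ O, φ = curv T := by
    rw [Finset.sum_insert (fun h => ((mem_orb T).1 h).1 rfl),
      show ∑ φ ∈ orb T L, φ = rest T L from rfl, hzero, add_zero]
  refine four_ext fun v₁ v₂ v₃ v₄ => ?_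
  rw [pull_apply]
  conv_lhs => rw [← hsum]
  conv_rhs => rw [← hsum]
  simp only [LinearMap.sum_apply]
  exact Finset.sum_bij' (fun φ _ => pull g φ) (fun φ _ => pull g⁻¹ φ)
    (fun φ hφ => hmem g hg φ hφ) (fun φ hφ => hmem g⁻¹ (inv_mem hg) φ hφ)
    (fun φ _ => by rw [← pull_mul, mul_inv_cancel, pull_one])
    (fun φ _ => by rw [← pull_mul, inv_mul_cancel, pull_one]) fun φ _ => rfl

end Cfsg.Lib.Linear.OOTensor.Square
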