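import Cfsg.Agent.Lib.Linear.OOTensor.Square.Basic

/-!
# Overgroups in the square of a space of dimension three

With a long element the group is everything; without one the unipotent radical consists of Siegel
elements, and an element taking a row to a row or a column permutes the two families.
-/

set_option autoImplicit false
set_option linter.unusedSectionVars false
set_option linter.unusedSimpArgs false
set_option linter.style.haveILetI false

namespace Cfsg.Lib.Linear.OOTensor.Square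

open Module
open scoped Matrix
open Cfsg.Lib.Linear.Orth
open Cfsg.Lib.Linear.SpTensor (InA)

section Unipotent

variable {μ : Type} [Fintype μ] [DecidableEq μ] {F : Type*} [Field F]
  {β : LinearMap.BilinForm F (μ → F)}

/-- An isometry of `p`-power order is trivial or a Siegel element. -/
theorem unip_struct (C : Space (qf β) β) (h2 : (2 : F) ≠ 0) (h3 : Fintype.card μ = 3) {P : ℕ}
    [Fact P.Prime] [CharP F P] {q : GL μ F} (hq : q ∈ isometryGroup F (qf β)) (hP : q ^ P = 1) :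
    q = 1 ∨ ∃ y f e, ∃ t : F, Three β y f e ∧ t ≠ 0 ∧ q = sGL (qf β) β y (t • e) := by
  classical
  rcases eq_or_ne q 1 with h1 | h1
  · exact Or.inl h1
  refine Or.inr ?_
  haveI : Nonempty μ := Fintype.card_pos_iff.1 (by omega)
  haveI : CharP (Module.End F (μ → F)) P :=
    charP_of_injective_algebraMap (RingHom.injective (algebraMap F (Module.End F (μ → F)))) P
  set N : Module.End F (μ → F) := opHom q - 1 with hN
  have hnil : N ^ P = 0 := by
    rw [hN, sub_pow_char_of_commute P (Commute.one_right (opHom q)), ← map_pow, hP, map_one, one_pow,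
      sub_self]
  have hN0 : N ≠ 0 := fun h => h1 (opHom_injective (by rw [map_one]; exact sub_eq_zero.1 h))
  obtain ⟨c, hc⟩ : ∃ c, N c ≠ 0 := by
    by_contra h
    push Not at h
    exact hN0 (LinearMap.ext h)
  have hex : ∃ j, (N ^ j) c = 0 := ⟨P, by rw [hnil, LinearMap.zero_apply]⟩
  have hge : 2 ≤ Nat.find hex := by
    refine (Nat.le_find_iff hex 2).2 fun m hm h => ?_
    interval_cases m
    · exact hc (by rw [show c = 0 from h, map_zero])
    · exact hc (by simpa using h)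
  obtain ⟨j, hj⟩ : ∃ j, Nat.find hex = j + 2 := ⟨Nat.find hex - 2, by omega⟩
  set v := (N ^ j) c
  set w := (N ^ (j + 1)) c
  have hw0 : w ≠ 0 := Nat.find_min hex (by omega)
  have hvw : N v = w := by rw [← Module.End.mul_apply, ← pow_succ']
  have hw : N w = 0 := by
    rw [← Module.End.mul_apply, ← pow_succ', show j + 1 + 1 = Nat.find hex from hj.symm]
    exact Nat.find_spec hex
  have hqw : q.val *ᵥ w = w := sub_eq_zero.1 hw
  have hqv : q.val *ᵥ v = v + w := by rw [← hvw, hN]; simp [opHom_apply]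
  have hww : qf β w = 0 := by
    have h := C.B_act hq v w
    rw [hqw, hqv, map_add, LinearMap.add_apply, add_eq_left] at h
    simp [qf, h]
  obtain ⟨f, e, D⟩ := exists_three_at C h2 h3 hww hw0
  obtain ⟨t, ht⟩ := D.fix_struct hq hP hqw
  exact ⟨w, f, e, t, D, fun h => h1 (by
    rw [ht, h, zero_smul, SpTensor.sGL_zero_right C hww]), ht⟩

end Unipotent

variable {ι κ μ : Type} [Fintype ι] [DecidableEq ι] [Fintype κ] [DecidableEq κ] [Fintype μ]
  [DecidableEq μ] {F : Type*} [Field F] {Q : (ι → F) → F} {B : LinearMap.BilinForm F (ι → F)}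
  {α : LinearMap.BilinForm F (κ → F)} {β : LinearMap.BilinForm F (μ → F)}
  {τ : (κ → F) →ₗ[F] (μ → F) →ₗ[F] (ι → F)} {L : Subgroup (GL ι F)}

/-- The element exchanges the factors. -/
def SwapAct (τ : (κ → F) →ₗ[F] (μ → F) →ₗ[F] (ι → F)) (g : GL ι F) : Prop :=
  ∃ p : (κ → F) →ₗ[F] (μ → F), ∃ q : (μ → F) →ₗ[F] (κ → F), ∀ a x, g.val *ᵥ τ a x = τ (q x) (p a)

/-- The element permutes the factors. -/
def PS (τ : (κ → F) →ₗ[F] (μ → F) →ₗ[F] (ι → F)) (g : GL ι F) : Prop := Pure τ g ∨ SwapAct τ g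

theorem _root_.Cfsg.Lib.Linear.OOTensor.Pure.flip {g : GL ι F} (h : Pure τ g) : Pure τ.flip g :=
  let ⟨p, q, h⟩ := h
  ⟨q, p, fun a x => h x a⟩

theorem SwapAct.flip {g : GL ι F} (h : SwapAct τ g) : SwapAct τ.flip g :=
  let ⟨p, q, h⟩ := h
  ⟨q, p, fun a x => h x a⟩

theorem PS.flip {g : GL ι F} (h : PS τ g) : PS τ.flip g := h.imp Pure.flip SwapAct.flip

theorem PS.unflip {g : GL ι F} (h : PS τ.flip g) : PS τ g := h.flip

theorem _root_.Cfsg.Lib.Linear.OOTensor.Over.swap {T : Ten Q B α β τ} (hL : Over T L) : Over T.swap L := ⟨hL.le, hL.left, hL.right⟩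

/-- Two exchanges compose to a factorwise element. -/
theorem SwapAct.mul (T : Ten Q B α β τ) (hκ : 0 < Fintype.card κ) (hμ : 0 < Fintype.card μ)
    {g h : GL ι F} (hg : SwapAct τ g) (hh : SwapAct τ h) : Pure τ (g * h) := by
  obtain ⟨p, q, hg⟩ := hg
  obtain ⟨p', q', hh⟩ := hh
  have e : ∀ a x, (g * h).val *ᵥ τ a x = τ (q (p' a)) (p (q' x)) := fun a x => by
    rw [mul_act, hh, hg]
  obtain ⟨a₀, ha₀⟩ := T.exists_aniso_left hκ
  obtain ⟨x₀, hx₀⟩ := T.swap.exists_aniso_left hμ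
  have ha : a₀ ≠ 0 := fun e => ha₀ (by simp [e])
  have hx : x₀ ≠ 0 := fun e => hx₀ (by simp [e])
  have i1 : Function.Injective (q ∘ₗ p') := fun a b hab =>
    T.tau_inj hx (Orth.act_injective (g * h) (by
      show (g * h).val *ᵥ τ a x₀ = (g * h).val *ᵥ τ b x₀
      rw [e, e]
      exact congrArg (fun z => τ z (p (q' x₀))) hab))
  have i2 : Function.Injective (p ∘ₗ q') := fun a b hab =>
    T.swap.tau_inj ha (Orth.act_injective (g * h) (by
      show (g * h).val *ᵥ τ a₀ a = (g * h).val *ᵥ τ a₀ b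
      rw [e, e]
      exact congrArg (fun z => τ (q (p' a₀)) z) hab))
  obtain ⟨P₁, hP₁⟩ := exists_gl i1
  obtain ⟨P₂, hP₂⟩ := exists_gl i2
  exact ⟨P₁, P₂, fun a x => by rw [e, hP₁, hP₂]; rfl⟩

theorem SwapAct.mul_pure {g h : GL ι F} (hg : SwapAct τ g) (hh : Pure τ h) : SwapAct τ (g * h) := by
  obtain ⟨p, q, hg⟩ := hg
  obtain ⟨p', q', hh⟩ := hh
  exact ⟨p ∘ₗ Matrix.mulVecLin p'.val, q ∘ₗ Matrix.mulVecLin q'.val, fun a x => by
    rw [mul_act, hh, hg]; rfl⟩

theorem _root_.Cfsg.Lib.Linear.OOTensor.Pure.mul {g h : GL ι F} (hg : Pure τ g) (hh : Pure τ h) : Pure τ (g * h) :=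
  (pureGroup τ).mul_mem (mem_pureGroup.2 hg) (mem_pureGroup.2 hh)

/-- Normalised components of a factorwise element of `p`-power order. -/
theorem pure_unip [Finite F] (T : Ten Q B α β τ) (hκ : 0 < Fintype.card κ)
    (hμ : 0 < Fintype.card μ) (P : ℕ) [Fact P.Prime] [CharP F P] {g : GL ι F}
    (hg : g ∈ isometryGroup F Q) (hp : Pure τ g) (hP : g ^ P = 1) :
    ∃ (p : GL κ F) (q : GL μ F), (∀ a x, g.val *ᵥ τ a x = τ (p.val *ᵥ a) (q.val *ᵥ x)) ∧
      p ∈ isometryGroup F (qf α) ∧ q ∈ isometryGroup F (qf β) ∧ p ^ P = 1 ∧ q ^ P = 1 := by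
  classical
  obtain ⟨p, q, hpq⟩ := hp
  have hn : ∀ (p : GL κ F) (q : GL μ F), (∀ a x, g.val *ᵥ τ a x = τ (p.val *ᵥ a) (q.val *ᵥ x)) →
      ∀ (n : ℕ) a x, (g ^ n).val *ᵥ τ a x = τ ((p ^ n).val *ᵥ a) ((q ^ n).val *ᵥ x) := by
    intro p q h n
    induction n with
    | zero => simp
    | succ n ih => intro a x; rw [pow_succ', mul_act, ih, h, pow_succ', pow_succ', mul_act, mul_act]
  obtain ⟨a₀, ha₀⟩ := T.exists_aniso_left hκ
  obtain ⟨x₀, hx₀⟩ := T.swap.exists_aniso_left hμ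
  have ha : a₀ ≠ 0 := fun e => ha₀ (by simp [e])
  have hx : x₀ ≠ 0 := fun e => hx₀ (by simp [e])
  obtain ⟨z, hz⟩ := T.exists_one (Orth.act_ne_zero (g := q ^ P) hx)
  set k := β x₀ z
  have hk : ∀ a, (p ^ P).val *ᵥ a = k • a := fun a => by
    have h := congrArg (T.ctr z) (hn p q hpq P a x₀)
    rw [hP, Units.val_one, Matrix.one_mulVec, T.ctr_tau, T.ctr_tau, hz, one_smul] at h
    exact h.symm
  have hk0 : k ≠ 0 := fun e => Orth.act_ne_zero ha (by rw [hk, e, zero_smul])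
  haveI : ExpChar F P := ExpChar.prime Fact.out
  obtain ⟨d, hd⟩ := surjective_frobenius F P k
  rw [frobenius_def] at hd
  have hd0 : d ≠ 0 := fun e => hk0 (by rw [← hd, e, zero_pow (Fact.out : P.Prime).ne_zero])
  obtain ⟨p₁, hp₁⟩ := exists_gl (φ := d⁻¹ • Matrix.mulVecLin p.val) fun a b h =>
    Orth.act_injective p (by simpa [hd0] using h)
  obtain ⟨q₁, hq₁⟩ := exists_gl (φ := d • Matrix.mulVecLin q.val) fun a b h =>
    Orth.act_injective q (by simpa [hd0] using h)
  have hact : ∀ a x, g.val *ᵥ τ a x = τ (p₁.val *ᵥ a) (q₁.val *ᵥ x) := fun a x => by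
    rw [hp₁, hq₁, hpq]
    simp [smul_smul, hd0]
  have hp1P : p₁ ^ P = 1 := by
    have e : ∀ n : ℕ, ∀ a, (p₁ ^ n).val *ᵥ a = d⁻¹ ^ n • ((p ^ n).val *ᵥ a) := fun n => by
      induction n with
      | zero => simp
      | succ n ih =>
        intro a
        rw [pow_succ', mul_act, ih, hp₁, LinearMap.smul_apply, Matrix.mulVecLin_apply,
          Matrix.mulVec_smul, smul_smul, pow_succ', ← mul_act, ← pow_succ' p n]
    refine Orth.gl_ext fun a => ?_
    rw [e, hk, smul_smul, ← hd, ← mul_pow, inv_mul_cancel₀ hd0, one_pow, one_smul, Units.val_one,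
      Matrix.one_mulVec]
  have hq1P : q₁ ^ P = 1 := Orth.gl_ext fun x => by
    refine T.swap.tau_inj ha ?_
    show τ a₀ _ = τ a₀ _
    have h := hn p₁ q₁ hact P a₀ x
    rw [hp1P, hP, Units.val_one, Matrix.one_mulVec, Units.val_one, Matrix.one_mulVec] at h
    rw [← h]; simp
  obtain ⟨ν, hν, hpν, hqν⟩ := Pure.sim T hκ hμ hg hact
  have hνn : ∀ n : ℕ, ∀ a b, α ((p₁ ^ n).val *ᵥ a) ((p₁ ^ n).val *ᵥ b) = ν ^ n * α a b := fun n => by
    induction n with
    | zero => simp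
    | succ n ih => intro a b; rw [pow_succ', mul_act, mul_act, hpν, ih, pow_succ', mul_assoc]
  have hν1 : ν = 1 := by
    have h := hνn P a₀ a₀
    rw [hp1P, Units.val_one, Matrix.one_mulVec] at h
    have hm : ν ^ P = 1 := mul_right_cancel₀ ha₀ (by rw [one_mul]; exact h.symm)
    exact frobenius_inj F P (by rw [frobenius_def, frobenius_def, hm, one_pow])
  refine ⟨p₁, q₁, hact, mem_iso.2 fun a => ?_, mem_iso.2 fun x => ?_, hp1P, hq1P⟩
  · simp [qf, hpν, hν1]
  · simp [qf, hqν, hν1]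

variable (T : Ten Q B α β τ)
include T

/-- All long elements, from one. -/
theorem long_all3 [Finite F] (h3κ : Fintype.card κ = 3) (h3μ : Fintype.card μ = 3) (hL : Over T L)
    (hwin : ¬ Losing T L) {x : μ → F} (hx : qf β x = 0) (hx0 : x ≠ 0) {φ : Module.End F (κ → F)}
    (hφ : ∀ a b, α (φ a) b = -α a (φ b)) : InA L (T.long x φ) := by
  classical
  simp only [Losing, not_forall] at hwin
  obtain ⟨x₀, φ₀, hx₀, hx₀0, h₀, hne⟩ := hwin
  obtain ⟨ν, ν', Hν⟩ := exists_hyp' T.SU T.SU.ndeg_top (by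
    rw [finrank_top, finrank_fintype_fun_eq_card]; omega)
  obtain ⟨e, D⟩ := exists_three T.SU T.h2 h3κ Hν
  let inΦ : Module.End F (κ → F) → Prop := fun φ => InA L (T.long x₀ φ)
  have hadd : ∀ {φ ψ}, inΦ φ → inΦ ψ → inΦ (φ + ψ) := fun {φ ψ} h h' =>
    (h.add h' (T.long_sq hx₀ φ ψ)).congr fun v => by simp [T.long_apply]
  have hneg : ∀ {φ}, inΦ φ → inΦ (-φ) := fun {φ} h =>
    (h.neg (T.long_sq hx₀ φ φ)).congr fun v => by simp [T.long_apply]
  have hcj : ∀ {φ} {g : GL κ F}, inΦ φ → g ∈ Root (qf α) α ⊤ → inΦ (cj g φ) := fun {φ g} h hg => by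
    refine InA.conj (c := T.long x₀ (cj g φ)) h (hL.swap.root hg) fun v => ?_
    refine LinearMap.congr_fun (T.hom_ext
      (f := T.long x₀ (cj g φ) ∘ₗ Matrix.mulVecLin (T.swap.liftR g).val)
      (g := Matrix.mulVecLin (T.swap.liftR g).val ∘ₗ T.long x₀ φ) fun c w => ?_) v
    simp only [LinearMap.comp_apply, Matrix.mulVecLin_apply, T.liftL_act, T.long_tau, cj_act,
      Matrix.mulVec_smul]
  -- an element fixed by one Siegel element
  have hνe : α ν e = 0 := D.xe
  set u := sGL (qf α) α ν ((1 : F) • e) with hu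
  have huR : u ∈ Root (qf α) α ⊤ := sGL_mem_root trivial trivial D.hyp.singE (by simp [hνe])
  set Δ : Module.End F (Module.End F (κ → F)) := cj u - 1 with hΔ
  have hΔin : ∀ {φ}, inΦ φ → inΦ (Δ φ) := fun {φ} h => by
    rw [hΔ, LinearMap.sub_apply, Module.End.one_apply, sub_eq_add_neg]
    exact hadd (hcj h huR) (hneg h)
  have hpowin : ∀ j, inΦ ((Δ ^ j) φ₀) := fun j => by
    induction j with
    | zero => simpa using h₀
    | succ j ih => rw [pow_succ', Module.End.mul_apply]; exact hΔin ih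
  obtain ⟨n, hn⟩ : IsNilpotent Δ := cj_nilpotent T.SU D.hyp.singE (by simp [hνe])
  have hex : ∃ j, (Δ ^ j) φ₀ = 0 := ⟨n, by rw [hn, LinearMap.zero_apply]⟩
  obtain ⟨j, hj⟩ : ∃ j, Nat.find hex = j + 1 :=
    Nat.exists_eq_add_one.2 ((Nat.find_pos hex).2 (by simpa using hne))
  obtain ⟨X, hX⟩ : ∃ X, X = (Δ ^ j) φ₀ := ⟨_, rfl⟩
  have hX0 : X ≠ 0 := hX ▸ Nat.find_min hex (by omega)
  have hXin : inΦ X := hX ▸ hpowin j
  have hΔX : Δ X = 0 := by
    rw [hX, ← Module.End.mul_apply, ← pow_succ', ← hj]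
    exact Nat.find_spec hex
  have hXs : ∀ a b, α (X a) b = -α a (X b) := fun a b =>
    long_skew T hL.le hx₀ hx₀0 hXin a b
  have hfix1 : ∀ y, u.val *ᵥ X y = X (u.val *ᵥ y) := fun y => by
    have h := LinearMap.congr_fun (sub_eq_zero.1 hΔX) (u.val *ᵥ y)
    rw [cj_act, Module.End.one_apply] at h
    exact h
  have huinv : u⁻¹ = sGL (qf α) α ν (-((1 : F) • e)) :=
    SpTensor.sGL_inv' T.SU D.hyp.singE (by simp [hνe])
  have hfix2 : ∀ y, (sGL (qf α) α ν (-((1 : F) • e))).val *ᵥ X y =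
      X ((sGL (qf α) α ν (-((1 : F) • e))).val *ᵥ y) := fun y => by
    rw [← huinv]
    apply Orth.act_injective u
    show u.val *ᵥ _ = u.val *ᵥ _
    rw [act_inv, hfix1, act_inv]
  have hN := fun y => nil_comm T.SU T.h2 D.hyp (X := X) (v := (1 : F) • e) (by simp [hνe]) (c := 0)
    (fun z => by rw [zero_smul, add_zero]; exact hfix1 z)
    (fun z => by rw [zero_smul, sub_zero]; exact hfix2 z) y
  have hfix : ∀ v y, α ν v = 0 → (sGL (qf α) α ν v).val *ᵥ X y = X ((sGL (qf α) α ν v).val *ᵥ y) := by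
    intro v y hv
    have ev : v = (α e v / α e e) • e + α ν' v • ν := by
      conv_lhs => rw [D.expand v, hv]
      module
    rw [ev, sGL_add_self T.SU D.hyp.singE (by simp [hνe])]
    set t := α e v / α e e
    have h1 := hfix1 y
    have hNy := hN y
    simp only [zero_smul, add_zero, one_smul] at hNy
    simp only [hu, one_smul, sGL_act T.SU D.hyp.singE hνe, map_add, map_sub, map_smul] at h1 hNy
    simp only [sGL_act T.SU D.hyp.singE (show α ν (t • e) = 0 by simp [hνe]), map_add, map_sub,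
      map_smul, LinearMap.smul_apply, T.SU.smul, smul_eq_mul]
    linear_combination (norm := module) (t * t) • h1 + (t - t * t) • hNy
  obtain ⟨w, hw, hXw⟩ := fixed_wdg T.SU T.h2 D.hyp (by omega) hXs hfix
  rw [D.line w hw] at hXw
  set k := α e w / α e e
  rw [map_smul] at hXw
  have hk : k ≠ 0 := fun e' => hX0 (by rw [hXw, e', zero_smul])
  -- every multiple of it
  set N₀ := wdg α ν e
  have hsq : ∀ t : F, inΦ ((t * t * k) • N₀) := fun t => by
    rcases eq_or_ne t 0 with rfl | ht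
    · exact InA.zero.congr fun v => by simp [T.long_apply]
    obtain ⟨m, hm, hmx, hme⟩ := D.exists_torus ht
    have h := hcj hXin hm
    rw [hXw, map_smul, cj_wdg T.SU (root_le_iso T.SU _ hm), hmx, hme, map_smul,
      LinearMap.smul_apply, smul_smul] at h
    rwa [mul_comm (t * t) k]
  have hall : ∀ c : F, inΦ (c • N₀) := fun c => by
    have e : c • N₀ = ((((c / k) + 1) / 2) * (((c / k) + 1) / 2) * k) • N₀
        + -(((((c / k) - 1) / 2) * (((c / k) - 1) / 2) * k) • N₀) := by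
      have ec : (((c / k) + 1) / 2) * (((c / k) + 1) / 2) * k
          - (((c / k) - 1) / 2) * (((c / k) - 1) / 2) * k = c := by
        field_simp [T.h2, hk]
        ring
      conv_lhs => rw [← ec]
      module
    rw [e]
    exact hadd (hsq _) (hneg (hsq _))
  let Φ' : Submodule F (Module.End F (κ → F)) :=
    { carrier := {φ | ∀ c : F, inΦ (c • φ)}
      add_mem' := fun h h' c => by rw [smul_add]; exact hadd (h c) (h' c)
      zero_mem' := fun c => InA.zero.congr fun v => by simp [T.long_apply]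
      smul_mem' := fun d φ h c => by rw [smul_smul]; exact h _ }
  have hN0 : N₀ ≠ 0 := fun h => hX0 (by rw [hXw, h, smul_zero])
  have hskew : ∀ φ ∈ Φ', ∀ a b, α (φ a) b = -α a (φ b) := fun φ h => by
    have h1 := h 1
    rw [one_smul] at h1
    exact long_skew T hL.le hx₀ hx₀0 h1
  have hinv : Inv (qf α) α Φ' := fun v a hv hva φ hφ c => by
    rw [← map_smul]
    exact hcj (hφ c) (sGL_mem_root trivial trivial hv hva)
  have hU : ∀ a b, qf α a = 0 → qf α b = 0 → α a b = 0 → a ≠ 0 → b ∈ Submodule.span F {a} :=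
    fun a b ha hb hab ha0 => no_plane T.SU T.h2 h3κ ha hb hab ha0
  have hfull : φ ∈ Φ' :=
    skew_full T.SU T.h2 D.hyp (by omega) (Or.inr hU) hskew hinv ⟨N₀, hall, hN0⟩ hφ
  -- to every singular vector
  obtain ⟨f, e', D'⟩ := exists_three_at T.SW T.h2 h3μ hx₀ hx₀0
  obtain ⟨h, hh, c, hc, hhx⟩ := D'.line_trans hx hx0
  have h1 := long_move T hL (hfull (c * c)⁻¹) hh
  rw [hhx] at h1
  refine h1.congr fun v => ?_
  simp only [T.long_apply, map_smul, LinearMap.smul_apply, smul_smul]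
  rw [← mul_assoc, mul_inv_cancel₀ (mul_ne_zero hc hc), one_smul]

variable {x f e : μ → F} (D : Three β x f e) (hlose : Losing T L) (hL : Over T L)
include D hlose hL

/-- The unipotent radical consists of Siegel elements. -/
theorem unip_eq3 [Finite F] (h3 : Fintype.card κ = 3) (hs : ∃ s : F, s ≠ 0 ∧ s * s ≠ 1)
    {g : GL ι F} (hg : g ∈ L) (hu : Unip T x g) :
    ∃ a ∈ perp2 β ⊤ x f, g = T.liftR (sGL (qf β) β x a) := by
  have H := D.hyp
  let R : Module.End F (κ → F) → Prop := fun K => ∃ g ∈ L, Unip T x g ∧ T.cof f g e = K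
  have hRadd : ∀ {K K'}, R K → R K' → R (K + K') := by
    rintro K K' ⟨g, hg, hu, rfl⟩ ⟨g', hg', hu', rfl⟩
    exact ⟨g * g', mul_mem hg hg', hu.mul T hu', Unip.cof_mul T H hu hu' D.xe⟩
  have hRneg : ∀ {K}, R K → R (-K) := by
    rintro K ⟨g, hg, hu, rfl⟩
    exact ⟨g⁻¹, inv_mem hg, hu.inv T, Unip.cof_inv T H hu D.xe⟩
  have hRconj : ∀ {K} {m : GL ι F} {n : GL κ F} {q : GL μ F}, R K → m ∈ L →
      (∀ a w, m.val *ᵥ τ a w = τ (n.val *ᵥ a) (q.val *ᵥ w)) → ∀ {c : F}, q.val *ᵥ x = c • x →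
      q.val *ᵥ e = e → R (c • cj n K) := by
    rintro K m n q ⟨g, hg, hu, rfl⟩ hm hact c hqx hqe
    refine ⟨m * g * m⁻¹, mul_mem (mul_mem hm hg) (inv_mem hm),
      Unip.conj T H (hL.le hm) (fun u => ⟨c • (n.val *ᵥ u), by
        rw [hact, hqx, map_smul, map_smul, LinearMap.smul_apply]⟩) hu,
      Unip.cof_eq T H fun u => ?_⟩
    have h1 : (m⁻¹ : GL ι F).val *ᵥ τ u e = τ ((n⁻¹ : GL κ F).val *ᵥ u) e := by
      apply Orth.act_injective m
      show m.val *ᵥ _ = m.val *ᵥ _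
      rw [act_inv, hact, act_inv, hqe]
    rw [mul_act, mul_act, h1, hu.act T H D.xe, Matrix.mulVec_add, hact, hact, act_inv, hqe, hqx,
      map_smul, LinearMap.smul_apply, map_smul, LinearMap.smul_apply, cj_apply]
  have hRsq : ∀ {K} (t : F), R K → R ((t * t) • K) := fun {K} t h => by
    rcases eq_or_ne t 0 with rfl | ht
    · exact ⟨1, one_mem _, unip_one T x, by
        rw [mul_zero, zero_smul]; exact Unip.cof_eq T H fun u => by simp⟩
    obtain ⟨m, hm, hmx, hme⟩ := D.exists_torus ht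
    have h1 := hRconj h (hL.root hm) (n := 1) (fun a w => by
      rw [T.liftR_act, Units.val_one, Matrix.one_mulVec]) hmx hme
    have e1 : cj (1 : GL κ F) K = K := LinearMap.ext fun v => by simp [cj_apply]
    rwa [e1] at h1
  let 𝒦 : Submodule F (Module.End F (κ → F)) :=
    { carrier := {K | R K}
      add_mem' := fun h h' => hRadd h h'
      zero_mem' := ⟨1, one_mem _, unip_one T x, Unip.cof_eq T H fun u => by simp⟩
      smul_mem' := fun c K h => by
        have e : c • K = (((c + 1) / 2) * ((c + 1) / 2)) • K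
            + -((((c - 1) / 2) * ((c - 1) / 2)) • K) := by
          have ec : ((c + 1) / 2) * ((c + 1) / 2) - ((c - 1) / 2) * ((c - 1) / 2) = c := by
            field_simp [T.h2]
            ring
          conv_lhs => rw [← ec]
          module
        show R (c • K)
        rw [e]
        exact hRadd (hRsq _ h) (hRneg (hRsq _ h)) }
  have hsiegel : ∀ c : F, T.liftR (sGL (qf β) β x (c • e)) ∈ L ∧
      Unip T x (T.liftR (sGL (qf β) β x (c • e))) := fun c =>
    ⟨hL.right x _ H.singE (by simp [D.xe]), unip_siegel T H (by simp [D.xe])⟩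
  have hsa : ∀ X ∈ 𝒦, ∀ a b, α (X a) b = α a (X b) := by
    rintro X ⟨h, hh, hu', rfl⟩ a b
    have hS := hsiegel 1
    rw [one_smul] at hS
    exact Unip.self_adjoint T H (hL.le hh) hu'
      (Unip.comm T H hlose hL hh hS.1 hu' hS.2) D.mem a b
  have hact : ∀ {h : GL ι F}, h ∈ L → Unip T x h → ∀ u, h.val *ᵥ τ u f =
      τ u f + τ (T.ctr f (h.val *ᵥ τ u f)) x + τ (-(β e e)⁻¹ • T.cof f h e u) e := by
    intro h hh hu' u
    refine T.ext3 H ?_ ?_ fun r hr => ?_
    · simp [Unip.ctr_x T H (hL.le hh) hu', T.ctr_tau, D.hyp.pair' D.C, D.xx, D.xe, D.ex]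
    · simp [T.ctr_tau, D.hyp.pair, D.ff, D.fe, D.ef]
    · rw [D.line r hr, map_smul, LinearMap.smul_apply, LinearMap.smul_apply]
      congr 1
      refine T.α_ext fun c => ?_
      rw [Unip.ctr_perp T H (hL.le hh) hu' D.mem, ← hsa _ ⟨h, hh, hu', rfl⟩]
      simp [T.ctr_tau, D.ee, D.fe, D.xe]
  have hcomm : ∀ X ∈ 𝒦, ∀ Y ∈ 𝒦, X * Y = Y * X := by
    rintro X ⟨h, hh, hu', rfl⟩ Y ⟨h', hh', hu'', rfl⟩
    refine LinearMap.ext fun u => ?_
    have h1 := congrArg (fun k : GL ι F => T.ctr f (k.val *ᵥ τ u f))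
      (Unip.comm T H hlose hL hh' hh hu'' hu')
    simp only [mul_act] at h1
    have a1 := hact hh hu' u
    have a2 := hact hh' hu'' u
    obtain ⟨c1, hc1⟩ : ∃ c, c = T.ctr f (h.val *ᵥ τ u f) := ⟨_, rfl⟩
    obtain ⟨c2, hc2⟩ : ∃ c, c = T.ctr f (h'.val *ᵥ τ u f) := ⟨_, rfl⟩
    rw [← hc1] at a1
    rw [← hc2] at a2
    simp only [a1, a2, Matrix.mulVec_add, hu'.1, hu''.1, hu'.act T H D.xe, hu''.act T H D.xe,
      map_add, T.ctr_tau, D.ff, D.ef, D.hyp.pair, one_smul,
      zero_smul, zero_add, add_zero, map_smul, map_add, LinearMap.add_apply, LinearMap.smul_apply,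
      Matrix.mulVec_smul, smul_zero] at h1
    rw [Module.End.mul_apply, Module.End.mul_apply]
    linear_combination (norm := (match_scalars <;> field_simp [D.ee] <;> ring)) (β e e) • h1
  have hone : (1 : Module.End F (κ → F)) ∈ 𝒦 := by
    obtain ⟨h1, h2⟩ := hsiegel (-(β e e)⁻¹)
    refine ⟨_, h1, h2, ?_⟩
    rw [cof_siegel T H (by simp [D.xe]) D.xe]
    simp [D.ee]
  have hinv : Inv (qf α) α 𝒦 := fun v a hv hva X hX => by
    have h1 := hRconj hX (hL.left v a hv hva) (n := sGL (qf α) α v a) (q := 1) (fun c w => by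
      rw [T.liftL_act, Units.val_one, Matrix.one_mulVec]) (c := 1) (by simp) (by simp)
    rwa [one_smul] at h1
  obtain ⟨c, hc⟩ := sym_scalar T.SU T.h2 (by omega) (Or.inr hs) hsa hcomm hone hinv _
    (show R (T.cof f g e) from ⟨g, hg, hu, rfl⟩)
  obtain ⟨a, ha, he⟩ := exists_siegel_cof T H (by omega) (g := g) fun w hw => by
    rw [D.line w hw, map_smul, hc]
    exact Submodule.smul_mem _ _ (Submodule.smul_mem _ _ (Submodule.mem_span_singleton_self _))
  exact ⟨a, ha, Unip.ext T H hlose hL hg (hL.right x a H.singE (mem_perp2.1 ha).2.1) hu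
    (unip_siegel T H (mem_perp2.1 ha).2.1) he⟩

/-- An element preserving a row acts factorwise. -/
theorem pure_stab3 [Finite F] (h3 : Fintype.card κ = 3) (hs : ∃ s : F, s ≠ 0 ∧ s * s ≠ 1)
    {g : GL ι F} (hg : g ∈ L) (hgx : ∀ u, ∃ u', g.val *ᵥ τ u x = τ u' x) : Pure τ g :=
  pure_of_stab' T D.hyp hlose hL (by omega) (by rw [D.card]) (Or.inr hs)
    (fun hg hu => unip_eq3 T D hlose hL h3 hs hg hu) hg hgx

omit D in
/-- An element taking a row to a row acts factorwise. -/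
theorem pure_row [Finite F] (h3κ : Fintype.card κ = 3) (h3μ : Fintype.card μ = 3)
    (hs : ∃ s : F, s ≠ 0 ∧ s * s ≠ 1) {g : GL ι F} (hg : g ∈ L) {x y : μ → F} (hx : qf β x = 0)
    (hx0 : x ≠ 0) (hy0 : y ≠ 0) (hgx : ∀ u, ∃ u', g.val *ᵥ τ u x = τ u' y) : Pure τ g := by
  obtain ⟨f, e, D⟩ := exists_three_at T.SW T.h2 h3μ hx hx0
  obtain ⟨z, hz⟩ := T.exists_one hy0
  have hgI := hL.le hg
  let ψ : Module.End F (κ → F) := T.ctr z ∘ₗ Matrix.mulVecLin g.val ∘ₗ τ.flip x
  have hψ : ∀ u, g.val *ᵥ τ u x = τ (ψ u) y := fun u => by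
    obtain ⟨u', hu'⟩ := hgx u
    simp [ψ, hu', T.ctr_tau, hz]
  have hinj : Function.Injective ψ := fun a b hab => by
    refine T.tau_inj hx0 (Orth.act_injective g ?_)
    show g.val *ᵥ τ a x = g.val *ᵥ τ b x
    rw [hψ, hψ, hab]
  have hy : qf β y = 0 := by
    obtain ⟨a, ha⟩ := T.exists_aniso_left (by omega : 0 < Fintype.card κ)
    obtain ⟨u, rfl⟩ := LinearMap.surjective_of_injective hinj a
    have h := T.space.B_act hgI (τ u x) (τ u x)
    rw [hψ, T.pair, T.pair, D.xx, mul_zero] at h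
    exact T.qf_zero.2 ((mul_eq_zero.1 h).resolve_left ha)
  obtain ⟨h, hh, c, hc, hhy⟩ := D.line_trans hy hy0
  have hp : Pure τ ((T.liftR h)⁻¹ * g) :=
    pure_stab3 T D hlose hL h3κ hs (mul_mem (inv_mem (hL.root hh)) hg) fun u => by
      refine ⟨c⁻¹ • ψ u, Orth.act_injective (T.liftR h) ?_⟩
      show (T.liftR h).val *ᵥ _ = (T.liftR h).val *ᵥ _
      rw [mul_act, act_inv, T.liftR_act, hhy, hψ, map_smul, map_smul, LinearMap.smul_apply,
        smul_smul, mul_inv_cancel₀ hc, one_smul]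
  simpa using Pure.mul (T.liftR_pure h) hp

end Cfsg.Lib.Linear.OOTensor.Square
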